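import Mathlib
import Cfsg.Agent.S3357

/-!
# Lifting coprime representations to characteristic zero

A representation over the prime field of a group of order prime to the characteristic lifts to the
p-adic integers, hence gives a complex representation of the same degree.
-/

set_option autoImplicit false

namespace Cfsg.Agent.Perm.TransCoprime

open Cardinal

variable {p : ℕ} [hp : Fact p.Prime]

/-- The p-adic numbers have at most continuum many elements. -/
theorem mk_padic_le : #ℚ_[p] ≤ 𝔠 := by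
  have h : ∀ (x : ℚ_[p]) (n : ℕ), ∃ r : ℚ, ‖x - r‖ < 1 / (n + 1 : ℝ) := fun x n =>
    Padic.rat_dense p x (by positivity)
  choose f hf using h
  have hinj : Function.Injective f := by
    intro x y hxy
    by_contra hne
    obtain ⟨n, hn⟩ := exists_nat_one_div_lt
      (half_pos (norm_pos_iff.2 (sub_ne_zero.2 hne)))
    have h1 := hf x n
    have h2 := hf y n
    rw [← congrFun hxy n] at h2
    have h3 : ‖x - y‖ ≤ ‖x - (f x n : ℚ_[p])‖ + ‖y - (f x n : ℚ_[p])‖ := by
      have := norm_sub_le (x - (f x n : ℚ_[p])) (y - (f x n : ℚ_[p]))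
      rwa [sub_sub_sub_cancel_right] at this
    linarith
  refine (mk_le_of_injective hinj).trans ?_
  simp [Cardinal.aleph0_power_aleph0]

/-- The p-adic numbers embed in the complex numbers. -/
theorem exists_padic_complex : Nonempty (ℚ_[p] →+* ℂ) := by
  set K := AlgebraicClosure ℚ_[p]
  haveI : CharZero K := charZero_of_injective_algebraMap (algebraMap ℚ_[p] K).injective
  have h1 : 𝔠 ≤ #K :=
    (continuum_le_cardinal_of_nontriviallyNormedField ℚ_[p]).trans
      (mk_le_of_injective (algebraMap ℚ_[p] K).injective)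
  have h2 : #K ≤ 𝔠 :=
    (Algebra.IsAlgebraic.cardinalMk_le_max ℚ_[p] K).trans
      (max_le mk_padic_le aleph0_le_continuum)
  obtain ⟨e⟩ := IsAlgClosed.ringEquiv_of_equiv_of_charZero (L := ℂ)
    (aleph0_lt_continuum.trans_le h1)
    (Cardinal.eq.1 ((le_antisymm h2 h1).trans Cardinal.mk_complex.symm))
  exact ⟨e.toRingHom.comp (algebraMap ℚ_[p] K)⟩

/-- A coherent system of residues. -/
def residues (p : ℕ) : Subring ((k : ℕ) → ZMod (p ^ k)) where
  carrier := {x | ∀ j k (h : j ≤ k), ZMod.castHom (pow_dvd_pow p h) (ZMod (p ^ j)) (x k) = x j}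
  zero_mem' := fun j k h => map_zero _
  one_mem' := fun j k h => map_one _
  add_mem' := fun {x y} hx hy j k h => by simp only [Pi.add_apply, map_add, hx j k h, hy j k h]
  mul_mem' := fun {x y} hx hy j k h => by simp only [Pi.mul_apply, map_mul, hx j k h, hy j k h]
  neg_mem' := fun {x} hx j k h => by simp only [Pi.neg_apply, map_neg, hx j k h]

/-- Coprime representations lift to complex ones, faithfully. -/
theorem exists_complex_lift {H : Type*} [Group H] [Finite H] {d : ℕ}
    (hH : ¬ p ∣ Nat.card H) (ρ : H →* GL (Fin d) (ZMod p)) (hρ : Function.Injective ρ) :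
    ∃ τ : Representation ℂ H (Fin d → ℂ), Function.Injective τ := by
  classical
  have hpp : p.Prime := hp.out
  haveI hne : ∀ k, NeZero (p ^ k) := fun k => ⟨pow_ne_zero _ hpp.ne_zero⟩
  let red : (k : ℕ) → GL (Fin d) (ZMod (p ^ (k + 1))) →* GL (Fin d) (ZMod p) := fun k =>
    Matrix.GeneralLinearGroup.map (ZMod.castHom (dvd_pow_self p k.succ_ne_zero) (ZMod p))
  let α : ℕ → Type _ := fun k =>
    {σ : H →* GL (Fin d) (ZMod (p ^ (k + 1))) // ∀ h, red k (σ h) = ρ h}
  have hfin : ∀ k, Finite (α k) := fun k => by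
    haveI : Finite (GL (Fin d) (ZMod (p ^ (k + 1)))) := inferInstance
    haveI : Finite (H →* GL (Fin d) (ZMod (p ^ (k + 1)))) :=
      Finite.of_injective _ DFunLike.coe_injective
    exact Subtype.finite
  haveI hnon : ∀ k, Nonempty (α k) := fun k =>
    let ⟨σ, hσ⟩ := S3357.exists_lift hH ρ k
    ⟨⟨σ, hσ⟩⟩
  haveI := hfin 0
  have hcomp : ∀ {i j l : ℕ} (hij : i ≤ j) (hjl : j ≤ l) (g : GL (Fin d) (ZMod (p ^ l))),
      Matrix.GeneralLinearGroup.map (ZMod.castHom (pow_dvd_pow p hij) (ZMod (p ^ i)))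
        (Matrix.GeneralLinearGroup.map (ZMod.castHom (pow_dvd_pow p hjl) (ZMod (p ^ j))) g) =
      Matrix.GeneralLinearGroup.map (ZMod.castHom (pow_dvd_pow p (hij.trans hjl)) (ZMod (p ^ i))) g := by
    intro i j l hij hjl g
    ext a b
    simp only [Matrix.GeneralLinearGroup.map_apply]
    exact DFunLike.congr_fun (RingHom.ext_zmod
      ((ZMod.castHom (pow_dvd_pow p hij) (ZMod (p ^ i))).comp
        (ZMod.castHom (pow_dvd_pow p hjl) (ZMod (p ^ j)))) _) _
  have hred : ∀ {i j : ℕ} (hij : i ≤ j) (g : GL (Fin d) (ZMod (p ^ (j + 1)))),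
      red i (Matrix.GeneralLinearGroup.map
        (ZMod.castHom (pow_dvd_pow p (Nat.add_le_add_right hij 1)) (ZMod (p ^ (i + 1)))) g) =
      red j g := by
    intro i j hij g
    ext a b
    simp only [red, Matrix.GeneralLinearGroup.map_apply]
    exact DFunLike.congr_fun (RingHom.ext_zmod
      ((ZMod.castHom (dvd_pow_self p i.succ_ne_zero) (ZMod p)).comp
        (ZMod.castHom (pow_dvd_pow p (Nat.add_le_add_right hij 1)) (ZMod (p ^ (i + 1))))) _) _
  let π : {i j : ℕ} → i ≤ j → α j → α i := fun {i j} hij σ =>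
    ⟨(Matrix.GeneralLinearGroup.map
      (ZMod.castHom (pow_dvd_pow p (Nat.add_le_add_right hij 1)) (ZMod (p ^ (i + 1))))).comp σ.1,
      fun h => (hred hij (σ.1 h)).trans (σ.2 h)⟩
  obtain ⟨f, hf⟩ := exists_seq_forall_proj_of_forall_finite (α := α) π
    (fun i a => Subtype.ext (MonoidHom.ext fun h => Matrix.GeneralLinearGroup.ext fun x y => by
      simp [π]))
    (fun i j k hij hjk a => Subtype.ext (MonoidHom.ext fun h =>
      hcomp (Nat.add_le_add_right hij 1) (Nat.add_le_add_right hjk 1) (a.1 h)))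
    (fun i a => by
      haveI := hfin (i + 1)
      exact Set.toFinite _)
  -- the residues of the entries
  let c : (k : ℕ) → H →* GL (Fin d) (ZMod (p ^ k)) := fun k =>
    (Matrix.GeneralLinearGroup.map
      (ZMod.castHom (pow_dvd_pow p k.le_succ) (ZMod (p ^ k)))).comp (f k).1
  have hc : ∀ (h : H) (j k : ℕ) (hjk : j ≤ k),
      Matrix.GeneralLinearGroup.map (ZMod.castHom (pow_dvd_pow p hjk) (ZMod (p ^ j))) (c k h) =
        c j h := by
    intro h j k hjk
    have h1 := hf hjk
    show _ = Matrix.GeneralLinearGroup.map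
      (ZMod.castHom (pow_dvd_pow p j.le_succ) (ZMod (p ^ j))) ((f j).1 h)
    rw [← h1]
    exact (hcomp hjk k.le_succ _).trans
      (hcomp j.le_succ (Nat.add_le_add_right hjk 1) _).symm
  let Ψ : H →* Matrix (Fin d) (Fin d) (residues p) :=
    { toFun := fun h => Matrix.of fun a b => ⟨fun k => (↑(c k h) : Matrix (Fin d) (Fin d) (ZMod (p ^ k))) a b, fun j k hjk => by
        have := congrArg (fun g : GL (Fin d) (ZMod (p ^ j)) => (↑g : Matrix (Fin d) (Fin d) (ZMod (p ^ j))) a b) (hc h j k hjk)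
        simpa using this⟩
      map_one' := by
        ext a b : 1
        refine Subtype.ext (funext fun k => ?_)
        show (↑(c k 1) : Matrix (Fin d) (Fin d) (ZMod (p ^ k))) a b = _
        rw [map_one, Units.val_one]
        simp only [Matrix.one_apply]
        split_ifs <;> rfl
      map_mul' := fun g h => by
        ext a b : 1
        refine Subtype.ext (funext fun k => ?_)
        simp [Matrix.mul_apply, map_mul] }
  obtain ⟨emb⟩ := exists_padic_complex (p := p)
  let fk : (k : ℕ) → residues p →+* ZMod (p ^ k) := fun k =>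
    (Pi.evalRingHom (fun k => ZMod (p ^ k)) k).comp (residues p).subtype
  have fcompat : ∀ (k1 k2) (hk : k1 ≤ k2),
      (ZMod.castHom (pow_dvd_pow p hk) _).comp (fk k2) = fk k1 :=
    fun k1 k2 hk => RingHom.ext fun x => x.2 k1 k2 hk
  let L := PadicInt.lift (p := p) fcompat
  let Θ : residues p →+* ℂ := emb.comp (PadicInt.Coe.ringHom.comp L)
  refine ⟨(Matrix.toLinAlgEquiv' : Matrix (Fin d) (Fin d) ℂ ≃ₐ[ℂ] _).toAlgHom.toRingHom.toMonoidHom.comp
    ((Θ.mapMatrix : Matrix (Fin d) (Fin d) (residues p) →+* _).toMonoidHom.comp Ψ),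
    fun g h he => hρ ?_⟩
  have he' : Θ.mapMatrix (Ψ g) = Θ.mapMatrix (Ψ h) :=
    (Matrix.toLinAlgEquiv' : Matrix (Fin d) (Fin d) ℂ ≃ₐ[ℂ] _).injective he
  have h1 : c 1 g = c 1 h := by
    ext a b
    have e1 : Θ (Ψ g a b) = Θ (Ψ h a b) := congrFun (congrFun he' a) b
    have e2 : L (Ψ g a b) = L (Ψ h a b) :=
      Subtype.ext (emb.injective e1)
    have e3 := congrArg (PadicInt.toZModPow 1) e2
    have s1 := DFunLike.congr_fun (PadicInt.lift_spec fcompat 1) (Ψ g a b)
    have s2 := DFunLike.congr_fun (PadicInt.lift_spec fcompat 1) (Ψ h a b)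
    exact s1.symm.trans (e3.trans s2)
  rw [← (f 1).2 g, ← (f 1).2 h]
  have h2 : ∀ x : GL (Fin d) (ZMod (p ^ (1 + 1))), red 1 x =
      Matrix.GeneralLinearGroup.map (ZMod.castHom (dvd_pow_self p one_ne_zero) (ZMod p))
        (Matrix.GeneralLinearGroup.map (ZMod.castHom (pow_dvd_pow p (Nat.le_succ 1)) (ZMod (p ^ 1))) x) := by
    intro x
    ext a b
    simp only [red, Matrix.GeneralLinearGroup.map_apply]
    exact (DFunLike.congr_fun (RingHom.ext_zmod
      ((ZMod.castHom (dvd_pow_self p one_ne_zero) (ZMod p)).comp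
        (ZMod.castHom (pow_dvd_pow p (Nat.le_succ 1)) (ZMod (p ^ 1)))) _) _).symm
  rw [h2, h2]
  exact congrArg _ h1

end Cfsg.Agent.Perm.TransCoprime
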