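import Mathlib
import Cfsg.Agent.Lib.Perm.TransLinear.Main
import Cfsg.Agent.Lib.Perm.TransCoprime.Lift
import Cfsg.Agent.Lib.Characters.Kernel
import Cfsg.Prelude.Def_Blocks

/-!
# Linear groups of order prime to the characteristic: irreducible elements and complex characters
-/

set_option autoImplicit false
set_option linter.style.haveILetI false
set_option linter.unusedSectionVars false

namespace Cfsg.Agent.Perm.TransCoprime

open TransLinear (Trans)
open NearField (endH endH_apply endH_injective finite_end finite_H centralizer_comm)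

variable {p : ℕ} [hp : Fact p.Prime] {V : Type*} [AddCommGroup V] [Module (ZMod p) V] [Finite V]
variable {H : Subgroup (V ≃ₗ[ZMod p] V)}

/-- A coprime linear group has a faithful complex representation of the same degree. -/
theorem exists_faithful_rep (hcop : ¬ p ∣ Nat.card H) {n : ℕ}
    (hn : Module.finrank (ZMod p) V = n) :
    ∃ τ : Representation ℂ H (Fin n → ℂ), Function.Injective τ := by
  haveI := finite_H (H := H)
  let b := Module.finBasisOfFinrankEq (ZMod p) V hn
  let ρ : H →* GL (Fin n) (ZMod p) :=
    ((LinearMap.toMatrixAlgEquiv b).toMonoidHom.comp (endH H)).toHomUnits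
  exact exists_complex_lift hcop ρ fun g h e =>
    endH_injective ((LinearMap.toMatrixAlgEquiv b).injective (congrArg Units.val e))

/-- Every subgroup has a faithful character of that degree. -/
theorem exists_faithful_char (hcop : ¬ p ∣ Nat.card H) {n : ℕ}
    (hn : Module.finrank (ZMod p) V = n) (K : Subgroup H) :
    ∃ χ : K → ℂ, Cfsg.IsCharacter K χ ∧ (∀ g : K, χ g = χ 1 → g = 1) ∧
      Cfsg.charDegree χ = n := by
  haveI := finite_H (H := H)
  obtain ⟨τ, hτ⟩ := exists_faithful_rep hcop hn
  refine ⟨Representation.character (τ.comp K.subtype), ⟨n, τ.comp K.subtype, rfl⟩, fun g hg => ?_, ?_⟩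
  · have h1 := (Characters.rep_apply_eq_id_iff (τ.comp K.subtype) g).2 hg
    apply Subtype.ext
    rw [Subgroup.coe_one]
    exact hτ (h1.trans (map_one τ).symm)
  · simp [Cfsg.charDegree, Representation.char_one]

/-- `x` leaves no proper nonzero subspace invariant. -/
def IrrElt (x : H) : Prop :=
  ∀ U : Submodule (ZMod p) V, (∀ v ∈ U, endH H x v ∈ U) → U = ⊥ ∨ U = ⊤

theorem endH_comm {a x : H} (ha : a ∈ Subgroup.centralizer ({x} : Set H)) :
    endH H a * endH H x = endH H x * endH H a := by
  rw [← map_mul, ← map_mul, Subgroup.mem_centralizer_singleton_iff.1 ha]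

theorem comm_of_irrElt [Nontrivial V] {x : H} (hx : IrrElt x) {a b : H}
    (ha : a ∈ Subgroup.centralizer ({x} : Set H)) (hb : b ∈ Subgroup.centralizer ({x} : Set H)) :
    a * b = b * a := by
  apply endH_injective
  rw [map_mul, map_mul]
  refine centralizer_comm {endH H x} (fun U hU => hx U fun v hv => hU _ rfl v hv) ?_ ?_ <;>
    rw [Subalgebra.mem_centralizer_iff] <;> rintro g rfl
  · exact (endH_comm ha).symm
  · exact (endH_comm hb).symm

theorem free_of_irrElt {x : H} (hx : IrrElt x) {a : H}
    (ha : a ∈ Subgroup.centralizer ({x} : Set H)) {v : V} (hv : v ≠ 0)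
    (hav : (a : V ≃ₗ[ZMod p] V) v = v) : a = 1 := by
  rcases hx (LinearMap.ker (endH H a - 1)) (fun w hw => by
    rw [LinearMap.mem_ker, LinearMap.sub_apply, Module.End.one_apply, sub_eq_zero] at hw ⊢
    rw [← Module.End.mul_apply, endH_comm ha, Module.End.mul_apply, hw]) with h | h
  · refine absurd ((Submodule.mem_bot (ZMod p)).1 ?_) hv
    rw [← h, LinearMap.mem_ker, LinearMap.sub_apply, Module.End.one_apply, sub_eq_zero]
    exact hav
  · exact endH_injective ((sub_eq_zero.1 (LinearMap.ker_eq_top.1 h)).trans (map_one _).symm)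

theorem isCyclic_centralizer [Nontrivial V] {x : H} (hx : IrrElt x) :
    IsCyclic (Subgroup.centralizer ({x} : Set H)) := by
  classical
  haveI := finite_end (p := p) (V := V)
  haveI := finite_H (H := H)
  set Z := Subalgebra.centralizer (ZMod p) ({endH H x} : Set (Module.End (ZMod p) V))
  have hcomm : ∀ a b : Z, a * b = b * a := fun a b =>
    Subtype.ext (centralizer_comm {endH H x} (fun U hU => hx U fun v hv => hU _ rfl v hv) a.2 b.2)
  letI : CommRing Z := { (inferInstance : Ring Z) with mul_comm := hcomm }
  haveI : NoZeroDivisors Z := ⟨fun {a b} hab => by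
    by_contra! hcon
    obtain ⟨ha, hb⟩ := hcon
    rcases hx (LinearMap.ker (a : Module.End (ZMod p) V)) (fun w hw => by
      rw [LinearMap.mem_ker] at hw ⊢
      have h := Subalgebra.mem_centralizer_iff (ZMod p) |>.1 a.2 _ rfl
      rw [← Module.End.mul_apply, ← h, Module.End.mul_apply, hw, map_zero]) with h | h
    · exact hb (Subtype.ext (LinearMap.ext fun w => LinearMap.ker_eq_bot'.1 h _
        (LinearMap.congr_fun (congrArg Subtype.val hab) w)))
    · exact ha (Subtype.ext (LinearMap.ker_eq_top.1 h))⟩
  haveI : IsDomain Z := NoZeroDivisors.to_isDomain _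
  let f : Subgroup.centralizer ({x} : Set H) →* Z :=
    { toFun := fun a => ⟨endH H (a : H), by
        rw [Subalgebra.mem_centralizer_iff]
        rintro g rfl
        exact (endH_comm a.2).symm⟩
      map_one' := Subtype.ext (map_one _)
      map_mul' := fun a b => Subtype.ext (map_mul (endH H) (a : H) (b : H)) }
  exact isCyclic_of_subgroup_isDomain f fun a b e =>
    Subtype.ext (endH_injective (congrArg Subtype.val e))

/-- A group acting without fixed nonzero vectors has order dividing their number. -/
theorem card_dvd_of_free (K : Subgroup H)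
    (hK : ∀ a ∈ K, ∀ v : V, v ≠ 0 → (a : V ≃ₗ[ZMod p] V) v = v → a = 1) :
    Nat.card K ∣ Nat.card V - 1 := by
  classical
  haveI := finite_H (H := H)
  haveI := Fintype.ofFinite V
  let Y := {v : V // v ≠ 0}
  letI : MulAction K Y :=
    { smul := fun a v => ⟨((a : H) : V ≃ₗ[ZMod p] V) v.1, fun e =>
        v.2 ((((a : H) : V ≃ₗ[ZMod p] V).map_eq_zero_iff).1 e)⟩
      one_smul := fun v => Subtype.ext rfl
      mul_smul := fun a b v => Subtype.ext rfl }
  have hfree : ∀ y : Y, MulAction.stabilizer K y = ⊥ := fun y =>
    (Subgroup.eq_bot_iff_forall _).2 fun a ha =>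
      Subtype.ext (hK a a.2 y.1 y.2 (congrArg Subtype.val ha))
  have h := Nat.card_congr (MulAction.selfEquivOrbitsQuotientProd hfree)
  rw [Nat.card_prod] at h
  have hY : Nat.card Y = Nat.card V - 1 := by
    rw [Nat.card_eq_fintype_card, Nat.card_eq_fintype_card, Fintype.card_subtype_compl,
      Fintype.card_subtype_eq]
  exact ⟨_, (mul_comm _ _).trans (h.symm.trans hY) |>.symm⟩

/-- The conjugates of an irreducible element inside its centralizer are few. -/
theorem index_centralizer_le [Nontrivial V] {x : H} (hx : IrrElt x)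
    (hn : (Subgroup.centralizer ({x} : Set H)).Normal) :
    (Subgroup.centralizer ({x} : Set H)).index ≤ Module.finrank (ZMod p) V := by
  classical
  haveI := finite_end (p := p) (V := V)
  haveI := finite_H (H := H)
  set Z := Subalgebra.centralizer (ZMod p) ({endH H x} : Set (Module.End (ZMod p) V))
  have hcomm : ∀ a b : Z, a * b = b * a := fun a b =>
    Subtype.ext (centralizer_comm {endH H x} (fun U hU => hx U fun v hv => hU _ rfl v hv) a.2 b.2)
  letI : CommRing Z := { (inferInstance : Ring Z) with mul_comm := hcomm }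
  haveI : NoZeroDivisors Z := ⟨fun {a b} hab => by
    by_contra! hcon
    obtain ⟨ha, hb⟩ := hcon
    rcases hx (LinearMap.ker (a : Module.End (ZMod p) V)) (fun w hw => by
      rw [LinearMap.mem_ker] at hw ⊢
      have h := Subalgebra.mem_centralizer_iff (ZMod p) |>.1 a.2 _ rfl
      rw [← Module.End.mul_apply, ← h, Module.End.mul_apply, hw, map_zero]) with h | h
    · exact hb (Subtype.ext (LinearMap.ext fun w => LinearMap.ker_eq_bot'.1 h _
        (LinearMap.congr_fun (congrArg Subtype.val hab) w)))
    · exact ha (Subtype.ext (LinearMap.ker_eq_top.1 h))⟩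
  haveI : IsDomain Z := NoZeroDivisors.to_isDomain _
  have hxC : x ∈ Subgroup.centralizer ({x} : Set H) := Subgroup.mem_centralizer_singleton_iff.2 rfl
  let c : MulAction.orbit (ConjAct H) x → Z := fun y => ⟨endH H (y : H), by
    obtain ⟨g, hg⟩ := y.2
    rw [Subalgebra.mem_centralizer_iff]
    rintro r rfl
    refine (endH_comm ?_).symm
    rw [← hg]
    exact hn.conj_mem x hxC (ConjAct.ofConjAct g)⟩
  set P : Polynomial Z := (minpoly (ZMod p) (endH H x)).map (algebraMap (ZMod p) Z)
  have hP0 : P ≠ 0 := (Polynomial.map_ne_zero_iff (algebraMap (ZMod p) Z).injective).2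
    (minpoly.ne_zero (Algebra.IsIntegral.isIntegral _))
  have hroot : ∀ y, (c y) ∈ P.roots.toFinset := by
    intro y
    rw [Multiset.mem_toFinset, Polynomial.mem_roots hP0, Polynomial.IsRoot, Polynomial.eval_map,
      ← Polynomial.aeval_def]
    apply Subtype.ext
    rw [← Subalgebra.coe_val Z, ← Polynomial.aeval_algHom_apply, map_zero]
    show Polynomial.aeval (endH H (y : H)) _ = 0
    obtain ⟨g, hg⟩ := y.2
    set g' := ConjAct.ofConjAct g
    let u : (Module.End (ZMod p) V)ˣ := (endH H).toHomUnits g'
    have hc : endH H (y : H) = MulSemiringAction.toAlgAut (ConjAct (Module.End (ZMod p) V)ˣ) (ZMod p)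
        (Module.End (ZMod p) V) (ConjAct.toConjAct u) (endH H x) := by
      rw [← hg]
      show endH H (g' * x * g'⁻¹) = _
      rw [map_mul, map_mul]
      rfl
    rw [hc, Polynomial.aeval_algHom_apply, minpoly.aeval, map_zero]
  have hcard : Nat.card (MulAction.orbit (ConjAct H) x) ≤ P.roots.toFinset.card := by
    rw [← Fintype.card_coe, ← Nat.card_eq_fintype_card]
    refine Nat.card_le_card_of_injective (fun y => ⟨c y, hroot y⟩) fun y z e => ?_
    exact Subtype.ext (endH_injective (congrArg (fun w => ((w.1 : Z) : Module.End (ZMod p) V)) e))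
  have horb : Nat.card (MulAction.orbit (ConjAct H) x) =
      (Subgroup.centralizer ({x} : Set H)).index := by
    rw [Subgroup.centralizer_eq_comap_stabilizer]
    refine (Nat.card_congr (MulAction.orbitEquivQuotientStabilizer _ x)).trans ?_
    exact (Subgroup.index_comap_of_surjective (H := MulAction.stabilizer (ConjAct H) x)
      (f := (ConjAct.toConjAct (G := H)).toMonoidHom) ConjAct.toConjAct.surjective).symm
  rw [← horb]
  calc _ ≤ P.roots.toFinset.card := hcard
    _ ≤ Multiset.card P.roots := Multiset.toFinset_card_le _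
    _ ≤ P.natDegree := Polynomial.card_roots' P
    _ ≤ (minpoly (ZMod p) (endH H x)).natDegree := Polynomial.natDegree_map_le
    _ ≤ _ := by
      rw [← LinearMap.charpoly_natDegree (endH H x)]
      exact Polynomial.natDegree_le_of_dvd (LinearMap.minpoly_dvd_charpoly _)
        (LinearMap.charpoly_monic _).ne_zero

end Cfsg.Agent.Perm.TransCoprime
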