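import Mathlib

/-!
# Counting conjugacy classes by centralizers
-/

set_option autoImplicit false
set_option linter.style.haveILetI false

namespace Cfsg.Agent.Perm.TransCoprime

variable {G : Type*} [Group G] [Fintype G]

/-- The class number times the order is the sum of the centralizer orders. -/
theorem classes_mul_card :
    Nat.card (ConjClasses G) * Nat.card G =
      ∑ x : G, Nat.card (Subgroup.centralizer ({x} : Set G)) := by
  classical
  rw [← card_comm_eq_card_conjClasses_mul_card, Nat.card_congr
    ({ toFun := fun q => ⟨q.1.1, ⟨q.1.2, Subgroup.mem_centralizer_singleton_iff.2 q.2.eq.symm⟩⟩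
       invFun := fun q => ⟨(q.1, q.2.1), (Subgroup.mem_centralizer_singleton_iff.1 q.2.2).symm⟩
       left_inv := fun q => rfl
       right_inv := fun q => rfl } :
      {q : G × G // Commute q.1 q.2} ≃ Σ x : G, Subgroup.centralizer ({x} : Set G)),
    Nat.card_sigma]

theorem card_classes_le : Nat.card (ConjClasses G) ≤ Nat.card G :=
  Nat.card_le_card_of_surjective ConjClasses.mk fun c => Quotient.inductionOn c fun a => ⟨a, rfl⟩

/-- All centralizers outside a set `Z` are at most `M`. -/
theorem classes_le_add (Z : Set G) (M : ℕ)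
    (hM : ∀ x ∉ Z, Nat.card (Subgroup.centralizer ({x} : Set G)) ≤ M) :
    Nat.card (ConjClasses G) ≤ Nat.card Z + M := by
  classical
  refine Nat.le_of_mul_le_mul_right ?_ (Nat.card_pos (α := G))
  rw [classes_mul_card, ← Finset.sum_filter_add_sum_filter_not Finset.univ (· ∈ Z)]
  have h1 : ∑ x ∈ Finset.univ.filter (· ∈ Z), Nat.card (Subgroup.centralizer ({x} : Set G)) ≤
      Nat.card Z * Nat.card G := by
    refine (Finset.sum_le_card_nsmul _ _ (Nat.card G) fun x _ => Subgroup.card_le_card_group _).trans ?_
    rw [smul_eq_mul, Nat.card_eq_card_toFinset (s := Z) |> (fun e => e)]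
    refine Nat.mul_le_mul_right _ (le_of_eq ?_)
    congr 1
    ext x
    simp
  have h2 : ∑ x ∈ Finset.univ.filter (· ∉ Z), Nat.card (Subgroup.centralizer ({x} : Set G)) ≤
      M * Nat.card G := by
    refine (Finset.sum_le_card_nsmul _ _ M fun x hx => hM x (Finset.mem_filter.1 hx).2).trans ?_
    rw [smul_eq_mul, mul_comm, Nat.card_eq_fintype_card]
    exact Nat.mul_le_mul_left _ (Finset.card_le_univ _)
  rw [add_mul]
  exact Nat.add_le_add h1 h2

/-- A normal subgroup met in at most `s` points by the outer centralizers. -/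
theorem classes_le_of_normal (A : Subgroup G) (hA : A ≠ ⊤) (s l : ℕ) (hl : 1 ≤ l)
    (hout : ∀ g ∉ A, Nat.card (Subgroup.centralizer ({g} : Set G) ⊓ A : Subgroup G) ≤ s)
    (hin : ∀ x ∈ A, x ∉ Subgroup.center G →
      l * Nat.card (Subgroup.centralizer ({x} : Set G)) ≤ Nat.card G) :
    l * Nat.card (ConjClasses G) ≤ (l - 1) * s + Nat.card A + l * ((A.index - 1) * s) := by
  classical
  obtain ⟨g₀, hg₀⟩ : ∃ g, g ∉ A := by
    by_contra! h
    exact hA (top_le_iff.1 fun g _ => h g)
  have hF : Nat.card (A ⊓ Subgroup.center G : Subgroup G) ≤ s := by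
    refine le_trans (Nat.le_of_dvd Nat.card_pos (Subgroup.card_dvd_of_le ?_)) (hout g₀ hg₀)
    exact fun x hx => ⟨Subgroup.mem_centralizer_singleton_iff.2
      (Subgroup.mem_center_iff.1 hx.2 g₀).symm, hx.1⟩
  have hcent : ∀ g ∉ A, Nat.card (Subgroup.centralizer ({g} : Set G)) ≤ s * A.index := by
    intro g hg
    set C := Subgroup.centralizer ({g} : Set G)
    have h1 := (A.subgroupOf C).card_mul_index
    have h2 : Nat.card (A.subgroupOf C) = Nat.card (C ⊓ A : Subgroup G) := by
      rw [← Subgroup.card_subtype C (A.subgroupOf C), Subgroup.subgroupOf_map_subtype, inf_comm]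
    rw [← h1, h2]
    exact Nat.mul_le_mul (hout g hg) (Subgroup.relIndex_le_of_le_right le_top (by
      rw [Subgroup.relIndex_top_right]; exact A.index_ne_zero_of_finite) |>.trans
        (le_of_eq A.relIndex_top_right))
  have hIn : ∀ x, x ∈ A → l * Nat.card (Subgroup.centralizer ({x} : Set G)) ≤
      Nat.card G + (if x ∈ Subgroup.center G then (l - 1) * Nat.card G else 0) := by
    intro x hx
    by_cases hc : x ∈ Subgroup.center G
    · rw [if_pos hc]
      refine (Nat.mul_le_mul_left l (Subgroup.card_le_card_group _)).trans (le_of_eq ?_)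
      nlinarith [Nat.sub_add_cancel hl]
    · rw [if_neg hc, add_zero]
      exact hin x hx hc
  refine Nat.le_of_mul_le_mul_right ?_ (Nat.card_pos (α := G))
  rw [mul_assoc, classes_mul_card, Finset.mul_sum,
    ← Finset.sum_filter_add_sum_filter_not Finset.univ (· ∈ A), add_mul, add_mul]
  have hcA : (Finset.univ.filter (· ∈ A)).card = Nat.card A := by
    rw [Nat.card_eq_fintype_card, ← Fintype.card_subtype]
  have hcN : (Finset.univ.filter (· ∉ A)).card = (A.index - 1) * Nat.card A := by
    have := Finset.card_filter_add_card_filter_not (s := (Finset.univ : Finset G)) (· ∈ A)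
    rw [hcA, Finset.card_univ, ← Nat.card_eq_fintype_card, ← A.index_mul_card] at this
    rw [Nat.sub_mul, one_mul]
    omega
  refine Nat.add_le_add ?_ ?_
  · refine (Finset.sum_le_sum fun x hx => hIn x (Finset.mem_filter.1 hx).2).trans ?_
    rw [Finset.sum_add_distrib, Finset.sum_const, ← Finset.sum_filter, Finset.sum_const,
      smul_eq_mul, smul_eq_mul, hcA, Finset.filter_filter]
    have hle : (Finset.univ.filter fun x => x ∈ A ∧ x ∈ Subgroup.center G).card ≤ s := by
      refine le_trans (le_of_eq ?_) hF
      rw [Nat.card_eq_fintype_card, ← Fintype.card_subtype]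
      simp [Subgroup.mem_inf]
    have h1 := Nat.mul_le_mul_right ((l - 1) * Nat.card G) hle
    nlinarith
  · refine (Finset.sum_le_card_nsmul _ _ (l * (s * A.index))
      fun x hx => Nat.mul_le_mul_left l (hcent x (Finset.mem_filter.1 hx).2)).trans (le_of_eq ?_)
    rw [smul_eq_mul, hcN, ← A.index_mul_card]
    ring

end Cfsg.Agent.Perm.TransCoprime
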