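import Mathlib
import Cfsg.Agent.Lib.Perm.TransCoprime.Basic
import Cfsg.Agent.Lib.Perm.TransCoprime.Count

/-!
# Coprime transitive groups of the line and of the plane
-/

set_option autoImplicit false
set_option linter.style.haveILetI false
set_option linter.unusedSectionVars false

namespace Cfsg.Agent.Perm.TransCoprime

open TransLinear (Trans card_dvd_of_trans)
open NearField (endH endH_apply endH_injective finite_end finite_H)

variable {p : ℕ} [hp : Fact p.Prime] {V : Type*} [AddCommGroup V] [Module (ZMod p) V] [Finite V]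
variable {H : Subgroup (V ≃ₗ[ZMod p] V)}

/-- orbit and stabilizer -/
theorem card_eq_mul_stabilizer (hT : Trans H) {v : V} (hv : v ≠ 0) :
    Nat.card H = (Nat.card V - 1) * Nat.card (MulAction.stabilizer H v) := by
  classical
  haveI := finite_H (H := H)
  haveI := Fintype.ofFinite V
  have he : MulAction.orbit H v = {w | w ≠ 0} := by
    ext w
    constructor
    · rintro ⟨h, rfl⟩
      exact fun e => hv ((h : V ≃ₗ[ZMod p] V).map_eq_zero_iff.1 e)
    · exact fun hw => hT v w hv hw
  have h1 : Nat.card (MulAction.orbit H v) = Nat.card V - 1 := by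
    rw [he, Nat.card_eq_fintype_card, Nat.card_eq_fintype_card]
    exact (Fintype.card_subtype_compl _).trans (by rw [Fintype.card_subtype_eq])
  rw [← h1, Nat.card_congr (MulAction.orbitEquivQuotientStabilizer H v),
    ← Subgroup.card_eq_card_quotient_mul_card_subgroup]

/-- the scalars in `H` -/
def scalars (H : Subgroup (V ≃ₗ[ZMod p] V)) : Set H :=
  {h | ∃ c : ZMod p, ∀ v, (h : V ≃ₗ[ZMod p] V) v = c • v}

theorem card_scalars_le [Nontrivial V] : Nat.card (scalars H) ≤ p - 1 := by
  obtain ⟨v, hv⟩ := exists_ne (0 : V)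
  have hc : ∀ h : scalars H, h.2.choose ≠ 0 := fun h e => by
    have h1 := h.2.choose_spec v
    rw [e, zero_smul] at h1
    exact hv (((h : H) : V ≃ₗ[ZMod p] V).map_eq_zero_iff.1 h1)
  calc Nat.card (scalars H) ≤ Nat.card (ZMod p)ˣ := by
        refine Nat.card_le_card_of_injective (fun h => Units.mk0 _ (hc h)) fun a b e => ?_
        refine Subtype.ext (Subtype.ext (LinearEquiv.ext fun w => ?_))
        rw [a.2.choose_spec w, b.2.choose_spec w]
        exact congrArg (fun u : (ZMod p)ˣ => (u : ZMod p) • w) e
    _ = p - 1 := by rw [Nat.card_eq_fintype_card, ZMod.card_units]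

/-- a vector fixed by a scalar -/
theorem scalar_fix {h : H} (hs : h ∈ scalars H) {v : V} (hv : v ≠ 0)
    (hf : (h : V ≃ₗ[ZMod p] V) v = v) : h = 1 := by
  obtain ⟨c, hc⟩ := hs
  have hc1 : c = 1 := by
    have h1 := hc v
    rw [hf] at h1
    have h2 : (c - 1) • v = 0 := by rw [sub_smul, one_smul, ← h1, sub_self]
    exact sub_eq_zero.1 ((smul_eq_zero.1 h2).resolve_right hv)
  refine Subtype.ext (LinearEquiv.ext fun w => ?_)
  rw [hc w, hc1, one_smul]
  rfl

/-- the line -/
theorem bound_line [Nontrivial V] (hn : Module.finrank (ZMod p) V = 1) {v : V} (hv : v ≠ 0) :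
    Nat.card (ConjClasses H) + Nat.card (ConjClasses (MulAction.stabilizer H v)) ≤ Nat.card V ∧
      IsCyclic H := by
  haveI := finite_H (H := H)
  haveI := Fintype.ofFinite H
  haveI := Fintype.ofFinite (MulAction.stabilizer H v)
  have hall : ∀ h : H, h ∈ scalars H := fun h => by
    obtain ⟨c, hc⟩ := (finrank_eq_one_iff_of_nonzero' v hv).1 hn ((h : V ≃ₗ[ZMod p] V) v)
    refine ⟨c, fun w => ?_⟩
    obtain ⟨d, rfl⟩ := (finrank_eq_one_iff_of_nonzero' v hv).1 hn w
    rw [map_smul, ← hc, smul_comm]
  have hH : Nat.card H ≤ p - 1 := by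
    refine le_trans (le_of_eq ?_) (card_scalars_le (H := H))
    exact (Nat.card_congr (Equiv.subtypeUnivEquiv hall)).symm
  have hs : Nat.card (MulAction.stabilizer H v) = 1 := by
    rw [Subgroup.card_eq_one, Subgroup.eq_bot_iff_forall]
    exact fun h hh => scalar_fix (hall h) hv hh
  have hV : Nat.card V = p := by
    rw [Module.natCard_eq_pow_finrank (K := ZMod p) (V := V), hn, Nat.card_zmod, pow_one]
  have := hp.out.two_le
  refine ⟨?_, ?_⟩
  · have h1 := card_classes_le (G := H)
    have h2 := card_classes_le (G := MulAction.stabilizer H v)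
    omega
  · have hc : ∀ h : H, (hall h).choose ≠ 0 := fun h e => by
      have h1 := (hall h).choose_spec v
      rw [e, zero_smul] at h1
      exact hv ((h : V ≃ₗ[ZMod p] V).map_eq_zero_iff.1 h1)
    let f : H →* (ZMod p)ˣ := MonoidHom.mk' (fun h => Units.mk0 _ (hc h)) fun a b => Units.ext (by
      show (hall (a * b)).choose = (hall a).choose * (hall b).choose
      have h1 := (hall (a * b)).choose_spec v
      have h2 : ((a * b : H) : V ≃ₗ[ZMod p] V) v = ((hall a).choose * (hall b).choose) • v := by
        rw [Subgroup.coe_mul, LinearEquiv.mul_apply, (hall b).choose_spec v, map_smul,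
          (hall a).choose_spec v, smul_smul, mul_comm]
      exact smul_left_injective (ZMod p) hv (show _ • v = _ • v from h1.symm.trans h2))
    refine isCyclic_of_subgroup_isDomain ((Units.coeHom (ZMod p)).comp f)
      fun a b e => Subtype.ext (LinearEquiv.ext fun w => ?_)
    rw [(hall a).choose_spec w, (hall b).choose_spec w]
    exact congrArg (fun u : ZMod p => u • w) e

variable (hcop : ¬ p ∣ Nat.card H) (hn : Module.finrank (ZMod p) V = 2)

include hn in
theorem span_pair_eq_top {v w : V} (hv : v ≠ 0) (hw : w ∉ Submodule.span (ZMod p) {v}) :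
    Submodule.span (ZMod p) {v, w} = ⊤ := by
  refine Submodule.eq_top_of_finrank_eq (le_antisymm (Submodule.finrank_le _) ?_)
  have h1 : Submodule.span (ZMod p) {v} < Submodule.span (ZMod p) {v, w} :=
    lt_of_le_of_ne (Submodule.span_mono (by simp)) fun e => hw (e ▸ Submodule.subset_span (by simp))
  have h2 := Submodule.finrank_lt_finrank_of_lt h1
  rw [finrank_span_singleton hv] at h2
  omega

include hcop hn in
/-- the stabilizer of a vector is small -/
theorem card_stabilizer_le [Nontrivial V] {v : V} (hv : v ≠ 0) :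
    Nat.card (MulAction.stabilizer H v) ≤ p - 1 := by
  haveI := finite_H (H := H)
  obtain ⟨w, hw⟩ : ∃ w, w ∉ Submodule.span (ZMod p) {v} := by
    by_contra! h
    have h1 : Submodule.span (ZMod p) {v} = ⊤ := top_le_iff.1 fun x _ => h x
    have h2 := finrank_span_singleton (K := ZMod p) hv
    rw [h1, finrank_top, hn] at h2
    omega
  have htop := span_pair_eq_top hn hv hw
  have hdec : ∀ u : V, ∃ a b : ZMod p, a • v + b • w = u := fun u =>
    Submodule.mem_span_pair.1 (htop ▸ Submodule.mem_top)
  have huniq : ∀ a b : ZMod p, a • v + b • w = 0 → b = 0 := by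
    intro a b h
    by_contra hb
    apply hw
    rw [Submodule.mem_span_singleton]
    refine ⟨b⁻¹ * -a, ?_⟩
    rw [mul_smul, neg_smul, eq_comm, eq_inv_smul_iff₀ hb]
    exact eq_neg_of_add_eq_zero_right h
  choose A B hAB using fun g : MulAction.stabilizer H v => hdec (((g : H) : V ≃ₗ[ZMod p] V) w)
  have hfix : ∀ g : MulAction.stabilizer H v, ((g : H) : V ≃ₗ[ZMod p] V) v = v := fun g => g.2
  have hB : ∀ g, B g ≠ 0 := fun g e => by
    have h1 := hAB g
    rw [e, zero_smul, add_zero] at h1
    apply hw
    rw [Submodule.mem_span_singleton]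
    refine ⟨A g, ((g : H) : V ≃ₗ[ZMod p] V).injective ?_⟩
    rw [map_smul, hfix, h1]
  let f : MulAction.stabilizer H v →* (ZMod p)ˣ := MonoidHom.mk' (fun g => Units.mk0 _ (hB g))
    fun a b => by
      refine Units.ext (show B (a * b) = B a * B b from ?_)
      have h1 := hAB (a * b)
      rw [Subgroup.coe_mul, Subgroup.coe_mul, LinearEquiv.mul_apply, ← hAB b, map_add, map_smul,
        map_smul, hfix, ← hAB a, smul_add, smul_smul, smul_smul] at h1
      refine sub_eq_zero.1 (huniq (A (a * b) - (A b + B b * A a)) _ ?_)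
      rw [sub_smul, sub_smul, add_smul, mul_comm (B a)]
      rw [← sub_eq_zero] at h1
      rw [← h1]
      abel
  have hinj : Function.Injective f := by
    rw [injective_iff_map_eq_one]
    intro g hg
    have hb : B g = 1 := congrArg Units.val hg
    have hgw : ∀ i : ℕ, (((g : H) ^ i : H) : V ≃ₗ[ZMod p] V) w = w + (i : ZMod p) • (A g • v) := by
      intro i
      induction i with
      | zero => simp
      | succ i ih =>
        rw [pow_succ', Subgroup.coe_mul, LinearEquiv.mul_apply, ih, map_add, map_smul, map_smul,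
          hfix, ← hAB g, hb, one_smul, Nat.cast_succ, add_smul, one_smul]
        abel
    have hgp : (g : H) ^ p = 1 := by
      refine Subtype.ext (LinearEquiv.ext fun u => ?_)
      obtain ⟨a, b, rfl⟩ := hdec u
      have e1 : (((g : H) ^ p : H) : V ≃ₗ[ZMod p] V) v = v :=
        ((MulAction.stabilizer H v).pow_mem g.2 p :)
      rw [map_add, map_smul, map_smul, e1, hgw, ZMod.natCast_self, zero_smul, add_zero]
      rfl
    have hord : orderOf (g : H) = 1 :=
      ((Nat.dvd_prime hp.out).1 (orderOf_dvd_of_pow_eq_one hgp)).resolve_right fun e =>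
        hcop ((dvd_of_eq e.symm).trans (orderOf_dvd_natCard (g : H)))
    exact Subtype.ext (orderOf_eq_one_iff.1 hord)
  calc Nat.card (MulAction.stabilizer H v) ≤ Nat.card (ZMod p)ˣ :=
        Nat.card_le_card_of_injective f hinj
    _ = p - 1 := by rw [Nat.card_eq_fintype_card, ZMod.card_units]

include hn in
/-- without eigenvectors an element is irreducible -/
theorem irrElt_of_no_eigen {x : H}
    (hx : ∀ v : V, v ≠ 0 → ∀ c : ZMod p, (x : V ≃ₗ[ZMod p] V) v ≠ c • v) : IrrElt x := by
  intro U hU
  by_contra! h
  obtain ⟨hb, ht⟩ := h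
  obtain ⟨v, hvU, hv⟩ := Submodule.exists_mem_ne_zero_of_ne_bot hb
  have h1 : Module.finrank (ZMod p) U = 1 := by
    have h2 := Submodule.finrank_lt ht
    have h3 : Module.finrank (ZMod p) U ≠ 0 := fun e => hb (Submodule.finrank_eq_zero.1 e)
    omega
  have hv' : (⟨v, hvU⟩ : U) ≠ 0 := fun e => hv (congrArg Subtype.val e)
  obtain ⟨c, hc⟩ := (finrank_eq_one_iff_of_nonzero' _ hv').1 h1 ⟨_, hU v hvU⟩
  exact hx v hv c (congrArg Subtype.val hc).symm

include hcop hn in
/-- the centralizer of a non-scalar with an eigenvector is small -/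
theorem card_centralizer_le_of_eigen [Nontrivial V] {x : H} (hx : x ∉ scalars H) {v : V}
    (hv : v ≠ 0) {c : ZMod p} (hxv : (x : V ≃ₗ[ZMod p] V) v = c • v) :
    Nat.card (Subgroup.centralizer ({x} : Set H)) ≤ (p - 1) * (p - 1) := by
  haveI := finite_H (H := H)
  set C := Subgroup.centralizer ({x} : Set H)
  set W : Submodule (ZMod p) V := LinearMap.ker (endH H x - c • 1)
  have hW : ∀ u, u ∈ W ↔ (x : V ≃ₗ[ZMod p] V) u = c • u := fun u => by
    rw [LinearMap.mem_ker, LinearMap.sub_apply, LinearMap.smul_apply, Module.End.one_apply,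
      sub_eq_zero, endH_apply]
  have hW1 : Module.finrank (ZMod p) W = 1 := by
    have h0 : Module.finrank (ZMod p) W ≠ 0 := fun e => by
      have h1 : v ∈ W := (hW v).2 hxv
      rw [Submodule.finrank_eq_zero.1 e, Submodule.mem_bot] at h1
      exact hv h1
    have h2 : W ≠ ⊤ := fun e => hx ⟨c, fun u => (hW u).1 (e ▸ Submodule.mem_top)⟩
    have := Submodule.finrank_lt h2
    omega
  have hline : ∀ g : C, ∃ a : ZMod p, ((g : H) : V ≃ₗ[ZMod p] V) v = a • v := fun g => by
    have hmem : ((g : H) : V ≃ₗ[ZMod p] V) v ∈ W := by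
      rw [hW, ← endH_apply, ← endH_apply, ← Module.End.mul_apply, ← endH_comm g.2,
        Module.End.mul_apply, endH_apply x, hxv, map_smul]
    have hv' : (⟨v, (hW v).2 hxv⟩ : W) ≠ 0 := fun e => hv (congrArg Subtype.val e)
    obtain ⟨a, ha⟩ := (finrank_eq_one_iff_of_nonzero' _ hv').1 hW1 ⟨_, hmem⟩
    exact ⟨a, (congrArg Subtype.val ha).symm⟩
  choose a ha using hline
  have ha0 : ∀ g, a g ≠ 0 := fun g e => by
    have h1 := ha g
    rw [e, zero_smul] at h1
    exact hv (((g : H) : V ≃ₗ[ZMod p] V).map_eq_zero_iff.1 h1)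
  let f : C →* (ZMod p)ˣ := MonoidHom.mk' (fun g => Units.mk0 _ (ha0 g)) fun g h => by
    refine Units.ext (show a (g * h) = a g * a h from smul_left_injective (ZMod p) hv ?_)
    show a (g * h) • v = (a g * a h) • v
    rw [← ha, Subgroup.coe_mul, Subgroup.coe_mul, LinearEquiv.mul_apply, ha h, map_smul, ha g,
      smul_smul, mul_comm]
  rw [← f.ker.index_mul_card, Subgroup.index_ker]
  refine Nat.mul_le_mul ?_ ?_
  · refine (Subgroup.card_le_card_group _).trans (le_of_eq ?_)
    rw [Nat.card_eq_fintype_card, ZMod.card_units]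
  · refine le_trans (Nat.card_le_card_of_injective
      (fun g : f.ker => (⟨((g : C) : H), ?_⟩ : MulAction.stabilizer H v)) ?_)
      (card_stabilizer_le hcop hn hv)
    · have h1 : a (g : C) = 1 := congrArg Units.val (MonoidHom.mem_ker.1 g.2)
      have h2 := ha (g : C)
      rw [h1, one_smul] at h2
      exact h2
    · intro g h e
      exact Subtype.ext (Subtype.ext (congrArg (fun u : MulAction.stabilizer H v => (u : H)) e))

include hcop hn in
/-- the plane -/
theorem bound_plane [Nontrivial V] (hT : Trans H) {v : V} (hv : v ≠ 0) :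
    Nat.card (ConjClasses H) + Nat.card (ConjClasses (MulAction.stabilizer H v)) ≤ Nat.card V ∧
      (Nat.card (ConjClasses H) + Nat.card (ConjClasses (MulAction.stabilizer H v)) = Nat.card V →
        IsCyclic H ∨ (Nat.card V = 9 ∧ Nat.card H = 16)) := by
  classical
  haveI := finite_H (H := H)
  haveI := Fintype.ofFinite H
  haveI := Fintype.ofFinite (MulAction.stabilizer H v)
  set h := Nat.card (MulAction.stabilizer H v) with hh
  have hks := card_classes_le (G := MulAction.stabilizer H v)
  have hh' := card_stabilizer_le hcop hn hv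
  have hV : Nat.card V = p * p := by
    rw [Module.natCard_eq_pow_finrank (K := ZMod p) (V := V), hn, Nat.card_zmod, pow_two]
  have hcard := card_eq_mul_stabilizer hT hv
  rw [← hh, hV] at hcard
  have h2p := hp.out.two_le
  obtain ⟨m, hm⟩ : ∃ m, p = m + 2 := ⟨p - 2, by omega⟩
  have hpp : p * p - 1 = m * m + 4 * m + 3 := by
    subst hm
    ring_nf
    omega
  have hp1 : p - 1 = m + 1 := by omega
  have hpp1 : (p - 1) * (p - 1) = m * m + 2 * m + 1 := by rw [hp1]; ring
  by_cases hsing : ∃ x : H, IrrElt x ∧ x ∉ scalars H ∧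
      Nat.card (Subgroup.centralizer ({x} : Set H)) = p * p - 1
  · obtain ⟨x, hx, hxs, hCcard⟩ := hsing
    set C := Subgroup.centralizer ({x} : Set H) with hC
    have hxC : x ∈ C := Subgroup.mem_centralizer_singleton_iff.2 rfl
    haveI hcyc : IsCyclic C := isCyclic_centralizer hx
    -- transitivity of the centralizer
    have hCtr : ∀ u w : V, u ≠ 0 → w ≠ 0 → ∃ g ∈ C, (g : V ≃ₗ[ZMod p] V) u = w := by
      intro u w hu hw
      haveI := Fintype.ofFinite V
      let φ : C → {y : V // y ≠ 0} := fun g => ⟨((g : H) : V ≃ₗ[ZMod p] V) u, fun e =>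
        hu (((g : H) : V ≃ₗ[ZMod p] V).map_eq_zero_iff.1 e)⟩
      have hφ : Function.Bijective φ := by
        rw [Nat.bijective_iff_injective_and_card]
        refine ⟨fun g g' e => ?_, ?_⟩
        · have e' : ((g : H) : V ≃ₗ[ZMod p] V) u = ((g' : H) : V ≃ₗ[ZMod p] V) u := congrArg Subtype.val e
          refine Subtype.ext (inv_mul_eq_one.1 (free_of_irrElt hx (C.mul_mem (C.inv_mem g'.2) g.2) hu ?_)).symm
          rw [Subgroup.coe_mul, LinearEquiv.mul_apply, e', Subgroup.coe_inv]
          exact ((g' : H) : V ≃ₗ[ZMod p] V).symm_apply_apply u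
        · rw [hCcard, Nat.card_eq_fintype_card, Fintype.card_subtype_compl, Fintype.card_subtype_eq,
            ← Nat.card_eq_fintype_card, hV]
      obtain ⟨g, hg⟩ := hφ.2 ⟨w, hw⟩
      exact ⟨g, g.2, congrArg Subtype.val hg⟩
    have hsmall : ∀ y ∈ C, y ∉ scalars H →
        Subgroup.centralizer ({y} : Set H) ≤ C := by
      intro y hy hys
      have hyirr : IrrElt y := irrElt_of_no_eigen hn fun u hu c hc => by
        apply hys
        refine ⟨c, fun w => ?_⟩
        by_cases hw : w = 0
        · rw [hw, map_zero, smul_zero]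
        obtain ⟨g, hg, rfl⟩ := hCtr u w hu hw
        have hcomm : y * g = g * y := comm_of_irrElt hx hy hg
        rw [← LinearEquiv.mul_apply, ← Subgroup.coe_mul, hcomm, Subgroup.coe_mul,
          LinearEquiv.mul_apply, hc, map_smul]
      intro g hg
      rw [hC, Subgroup.mem_centralizer_singleton_iff]
      exact comm_of_irrElt hyirr hg (Subgroup.mem_centralizer_singleton_iff.2
        (comm_of_irrElt hx hxC hy))
    have hscal : ∀ S : Subgroup H, (∀ y ∈ S, y ∈ scalars H) → Nat.card S ≤ p - 1 := fun S hS =>
      le_trans (Nat.card_le_card_of_injective (fun y : S => (⟨y, hS y y.2⟩ : scalars H))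
        fun a b e => Subtype.ext (congrArg (fun z : scalars H => (z : H)) e)) card_scalars_le
    have hidx : C.index = h := by
      have h1 := C.index_mul_card
      rw [hCcard, hcard, mul_comm (p * p - 1)] at h1
      exact Nat.eq_of_mul_eq_mul_right (by omega) h1
    have hCn : C.Normal := by
      refine ⟨fun y hy g => ?_⟩
      by_contra hgy
      set D := C.map (MulAut.conj g).toMonoidHom
      have hDcard : Nat.card D = p * p - 1 := by
        rw [Subgroup.card_map_of_injective (MulAut.conj g).injective, hCcard]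
      have hDindex : D.index = h := by
        have h1 := D.index_mul_card
        rw [hDcard, hcard, mul_comm (p * p - 1)] at h1
        exact Nat.eq_of_mul_eq_mul_right (by omega) h1
      have hCD : Nat.card (C ⊓ D : Subgroup H) ≤ p - 1 := by
        refine hscal _ fun z hz => ?_
        by_contra hzs
        have h1 := hsmall z hz.1 hzs
        have hDC : D ≤ C := by
          refine le_trans ?_ h1
          obtain ⟨z0, hz0, rfl⟩ := hz.2
          rintro _ ⟨w, hw, rfl⟩
          rw [Subgroup.mem_centralizer_singleton_iff, ← map_mul, ← map_mul, comm_of_irrElt hx hw hz0]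
        exact hgy (hDC ⟨y, hy, rfl⟩)
      have h1 := (D.subgroupOf C).index_mul_card
      have h2 : Nat.card (D.subgroupOf C) = Nat.card (C ⊓ D : Subgroup H) := by
        rw [← Subgroup.card_subtype C (D.subgroupOf C), Subgroup.subgroupOf_map_subtype, inf_comm]
      have h3 : (D.subgroupOf C).index ≤ D.index :=
        (Subgroup.relIndex_le_of_le_right le_top (by
          rw [Subgroup.relIndex_top_right]; exact D.index_ne_zero_of_finite)).trans
          (le_of_eq D.relIndex_top_right)
      have h4 := Nat.mul_le_mul h3 hCD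
      rw [← h2, h1, hCcard, hDindex, hpp] at h4
      have h5 := Nat.mul_le_mul_right (p - 1) hh'
      rw [hpp1, ← hh] at h5
      omega
    by_cases h1 : h = 1
    · have hCtop : C = ⊤ := Subgroup.index_eq_one.1 (hidx.trans h1)
      refine ⟨?_, fun _ => Or.inl ?_⟩
      · have := card_classes_le (G := H)
        rw [h1, mul_one] at hcard
        omega
      · exact isCyclic_of_surjective C.subtype (fun g => ⟨⟨g, hCtop ▸ Subgroup.mem_top g⟩, rfl⟩)
    have hle2 : h ≤ 2 := hidx ▸ hn ▸ index_centralizer_le hx hCn
    have h2 : h = 2 := by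
      have := Nat.card_pos (α := MulAction.stabilizer H v)
      omega
    have hAtop : C ≠ ⊤ := fun e => h1 (by rw [← hidx, e, Subgroup.index_top])
    have hk := classes_le_of_normal C hAtop (p - 1) 2 (by norm_num) (fun g hg => hscal _ fun y hy => by
        by_contra hys
        exact hg (hsmall y hy.2 hys (Subgroup.mem_centralizer_singleton_iff.2
          (Subgroup.mem_centralizer_singleton_iff.1 hy.1).symm)))
      (fun y _ hy => by
        have hne : Subgroup.centralizer ({y} : Set H) ≠ ⊤ := fun e => hy
          (Subgroup.mem_center_iff.2 fun g => Subgroup.mem_centralizer_singleton_iff.1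
            (e ▸ Subgroup.mem_top g))
        rw [← (Subgroup.centralizer ({y} : Set H)).index_mul_card]
        exact Nat.mul_le_mul_right _ (Subgroup.one_lt_index_of_ne_top hne))
    rw [hCcard, hidx, h2] at hk
    rw [h2] at hcard
    have hp3 : 3 ≤ p := by
      by_contra hlt
      have hp2 : p = 2 := by omega
      subst hp2
      rw [hcard] at hcop
      exact hcop (by norm_num)
    have h3m : 3 * m ≤ m * m + 2 * m := by nlinarith
    refine ⟨?_, fun heq => Or.inr ?_⟩
    · rw [hV]; omega
    · rw [hV] at heq ⊢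
      have hm1 : m ≤ 1 := by nlinarith
      have : p = 3 := by omega
      subst this
      exact ⟨rfl, hcard⟩
  · have hM : ∀ x ∉ scalars H, Nat.card (Subgroup.centralizer ({x} : Set H)) ≤
        max ((p - 1) * (p - 1)) ((p * p - 1) / 2) := by
      intro x hx
      by_cases he : ∃ u : V, u ≠ 0 ∧ ∃ c : ZMod p, (x : V ≃ₗ[ZMod p] V) u = c • u
      · obtain ⟨u, hu, c, hc⟩ := he
        exact le_max_of_le_left (card_centralizer_le_of_eigen hcop hn hx hu hc)
      · push Not at he
        have hirr := irrElt_of_no_eigen hn he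
        refine le_max_of_le_right ?_
        have hd := card_dvd_of_free _ fun a ha u hu hau => free_of_irrElt hirr ha hu hau
        rw [hV] at hd
        have hne : Nat.card (Subgroup.centralizer ({x} : Set H)) ≠ p * p - 1 := fun e =>
          hsing ⟨x, hirr, hx, e⟩
        obtain ⟨t, ht⟩ := hd
        have ht2 : 2 ≤ t := by
          by_contra hlt
          have hpos : 0 < p * p - 1 := by omega
          interval_cases t
          · omega
          · exact hne (by omega)
        rw [Nat.le_div_iff_mul_le (by norm_num), ht]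
        exact Nat.mul_le_mul_left _ ht2
    have hk := classes_le_add (scalars H) _ hM
    have hz := card_scalars_le (H := H)
    have hlt : Nat.card (ConjClasses H) + Nat.card (ConjClasses (MulAction.stabilizer H v)) <
        Nat.card V := by
      rcases max_choice ((p - 1) * (p - 1)) ((p * p - 1) / 2) with e | e <;> rw [e] at hk <;>
        rw [hV] <;> omega
    exact ⟨hlt.le, fun e => absurd e hlt.ne⟩

end Cfsg.Agent.Perm.TransCoprime
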