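import Mathlib
import Cfsg.Agent.Lib.Forms.DicksonList
import Cfsg.Agent.Lib.Forms.DicksonSolvable
import Cfsg.Agent.Lib.Forms.DicksonPGL.Basic
import Cfsg.Agent.Lib.PSLOrderSpectrum.Main
import Cfsg.Agent.Lib.Characters.Burnside

/-!
# Coprime two-dimensional linear groups in characteristic three or five are solvable
-/

set_option autoImplicit false
set_option linter.style.haveILetI false

namespace Cfsg.Agent.Perm.TransCoprime

open scoped MatrixGroups

theorem solvable_of_psl {F : Type*} [Field F] [Fintype F] (p : ℕ) [hp : Fact p.Prime] [CharP F p]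
    (hp60 : p ∣ 60) (hp2 : p ≠ 2) (K : Subgroup (Matrix.ProjectiveSpecialLinearGroup (Fin 2) F))
    (hcop : ¬ p ∣ Nat.card K) : Group.IsSolvable K := by
  rcases Forms.DicksonList.classify p K with
    ⟨g, -, -, (⟨hc, -⟩ | ⟨⟨e⟩⟩)⟩ | ⟨x, -, hfix⟩ | ⟨⟨e⟩⟩ | ⟨⟨e⟩⟩ | ⟨⟨e⟩⟩ | ⟨L, iL, iL', m, hm, h⟩
  · haveI := hc
    exact Group.isSolvable_of_comm fun a b => by
      letI : CommGroup K := IsCyclic.commGroup
      exact mul_comm a b
  · haveI := Forms.DicksonSolvable.isSolvable_dihedral (orderOf g)
    exact Group.isSolvable_of_surjective (f := e.symm.toMonoidHom) e.symm.surjective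
  · exact Forms.DicksonSolvable.isSolvable_of_fix p K x hfix
  · refine Characters.burnside_pa_qb (p := 2) (q := 3) (a := 2) (b := 1) Nat.prime_two Nat.prime_three ?_
    rw [Nat.card_congr e.toEquiv, nat_card_alternatingGroup, Nat.card_eq_fintype_card, Fintype.card_fin]
    rfl
  · refine Characters.burnside_pa_qb (p := 2) (q := 3) (a := 3) (b := 1) Nat.prime_two Nat.prime_three ?_
    rw [Nat.card_congr e.toEquiv, Nat.card_perm, Nat.card_eq_fintype_card, Fintype.card_fin]
    rfl
  · refine absurd ?_ hcop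
    rw [Nat.card_congr e.toEquiv, nat_card_alternatingGroup, Nat.card_eq_fintype_card, Fintype.card_fin]
    exact hp60
  · exfalso
    obtain ⟨k, -, hk⟩ := FiniteField.card F p
    have hpm : p ∣ Fintype.card L := by
      have hm0 : m ≠ 0 := by
        rintro rfl
        rw [pow_zero] at hm
        exact absurd hm.symm Fintype.one_lt_card.ne'
      have h1 : p ∣ Fintype.card L ^ m := by rw [hm, hk]; exact dvd_pow_self p k.ne_zero
      exact hp.out.dvd_of_dvd_pow h1
    rcases h with ⟨⟨e⟩⟩ | ⟨⟨e⟩⟩
    · apply hcop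
      rw [Nat.card_congr e.toEquiv]
      have h1 : p ∣ Nat.gcd 2 (Fintype.card L - 1) *
          Nat.card (Matrix.ProjectiveSpecialLinearGroup (Fin 2) L) := by
        rw [PSLOrderSpectrum.card_psl_two]
        exact dvd_mul_of_dvd_left hpm _
      refine (hp.out.dvd_mul.1 h1).resolve_left fun h2 => hp2 ?_
      exact (Nat.prime_dvd_prime_iff_eq hp.out Nat.prime_two).1 (h2.trans (Nat.gcd_dvd_left _ _))
    · apply hcop
      rw [Nat.card_congr e.toEquiv, Forms.DicksonPGL.natCard_PP]
      exact dvd_mul_of_dvd_left hpm _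

theorem solvable_of_GL2 {C : Type*} [Group C] [Finite C] {F : Type*} [Field F] [Fintype F] (p : ℕ)
    [hp : Fact p.Prime] [CharP F p] (hp60 : p ∣ 60) (hp2 : p ≠ 2)
    (ι : C →* GL (Fin 2) F) (hι : Function.Injective ι) (hcop : ¬ p ∣ Nat.card C) :
    Group.IsSolvable C := by
  classical
  let d : C →* Fˣ := Matrix.GeneralLinearGroup.det.comp ι
  let s : d.ker →* SL(2, F) :=
    { toFun := fun c => ⟨((ι (c : C) : GL (Fin 2) F) : Matrix (Fin 2) (Fin 2) F), by
        exact congrArg Units.val (MonoidHom.mem_ker.1 c.2)⟩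
      map_one' := Subtype.ext (by simp)
      map_mul' := fun a b => Subtype.ext
        (congrArg Units.val (map_mul ι (a : C) (b : C))) }
  have hs : Function.Injective s := fun a b e =>
    Subtype.ext (hι (Units.ext (congrArg (fun X : SL(2, F) => (X : Matrix (Fin 2) (Fin 2) F)) e)))
  set f := (Forms.KleinPSL.pi F).comp s
  have hcopf : ¬ p ∣ Nat.card f.range := fun h =>
    hcop (h.trans ((Subgroup.card_range_dvd f).trans (Subgroup.card_subgroup_dvd_card _)))
  haveI hr : Group.IsSolvable f.range := solvable_of_psl p hp60 hp2 f.range hcopf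
  haveI : Group.IsSolvable f.ker := Group.isSolvable_of_comm fun a b => by
    refine Subtype.ext (hs ?_)
    rw [Subgroup.coe_mul, Subgroup.coe_mul, map_mul, map_mul]
    have ha : s (a : d.ker) ∈ Subgroup.center SL(2, F) := by
      have h := MonoidHom.mem_ker.1 a.2
      exact (QuotientGroup.eq_one_iff _).1 h
    exact (Subgroup.mem_center_iff.1 ha _).symm
  haveI : Group.IsSolvable d.ker := Group.isSolvable_of_ker_le_range f.ker.subtype f.rangeRestrict
    (by rw [Subgroup.range_subtype, MonoidHom.ker_rangeRestrict])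
  exact Group.isSolvable_of_ker_le_range d.ker.subtype d (by rw [Subgroup.range_subtype])

end Cfsg.Agent.Perm.TransCoprime
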