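import Mathlib
import Cfsg.Agent.Lib.Perm.TransCoprime.Basic
import Cfsg.Agent.Lib.Perm.TransCoprime.DicksonTwo
import Cfsg.Agent.S0205
import Cfsg.Agent.S0899
import Cfsg.Agent.S3430
import Cfsg.Agent.S4485
import Cfsg.Agent.S4503
import Cfsg.Agent.S4504

/-!
# Coprime transitive linear groups of dimension at least three are solvable
-/

set_option autoImplicit false
set_option linter.style.haveILetI false
set_option linter.unusedSectionVars false

namespace Cfsg.Agent.Perm.TransCoprime

open TransLinear (Trans)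
open NearField (Inv Irr endH alg endH_apply endH_injective finite_end finite_H alg_mem alg_comm
  centralizer_comm inv_top exists_irr_le)

/-- a normal abelian subgroup with abelian automorphism group and abelian centralizer -/
theorem solvable_of_cyclic_normal {G : Type*} [Group G] (R : Subgroup G) [R.Normal] [IsCyclic R]
    [Group.IsSolvable (Subgroup.centralizer (R : Set G))] : Group.IsSolvable G := by
  let φ : G →* MulAut R := MulAut.conjNormal
  haveI : Group.IsSolvable (MulAut R) := by
    haveI : Group.IsSolvable (ZMod (Nat.card R))ˣ := Group.isSolvable_of_comm fun a b => mul_comm a b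
    exact Group.isSolvable_of_surjective (f := (IsCyclic.mulAutMulEquiv R).symm.toMonoidHom)
      (IsCyclic.mulAutMulEquiv R).symm.surjective
  refine Group.isSolvable_of_ker_le_range (Subgroup.centralizer (R : Set G)).subtype φ ?_
  rw [Subgroup.range_subtype]
  intro g hg
  rw [Subgroup.mem_centralizer_iff]
  intro r hr
  have h := congrArg Subtype.val (DFunLike.congr_fun (MonoidHom.mem_ker.1 hg) ⟨r, hr⟩)
  change g * r * g⁻¹ = r at h
  exact (mul_inv_eq_iff_eq_mul.1 h).symm

/-- the order of `PSL₂(r)` -/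
theorem two_mul_card_psl (r : ℕ) [hr : Fact r.Prime] (h2 : r ≠ 2) :
    2 * Nat.card (Matrix.ProjectiveSpecialLinearGroup (Fin 2) (ZMod r)) =
      r * ((r - 1) * (r + 1)) := by
  have h := PSLOrderSpectrum.card_psl_two (F := ZMod r)
  rw [ZMod.card] at h
  obtain ⟨k, hk⟩ := hr.out.odd_of_ne_two h2
  rwa [show Nat.gcd 2 (r - 1) = 2 from Nat.gcd_eq_left ⟨k, by omega⟩] at h

theorem three_dvd_card_psl (r : ℕ) [hr : Fact r.Prime] (h3 : 3 < r) :
    3 ∣ Nat.card (Matrix.ProjectiveSpecialLinearGroup (Fin 2) (ZMod r)) := by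
  have h := two_mul_card_psl r (by omega)
  have h3r : ¬ 3 ∣ r := fun hd => by
    have := (Nat.prime_dvd_prime_iff_eq Nat.prime_three hr.out).1 hd
    omega
  have h1 : 3 ∣ (r - 1) * (r + 1) := by
    rcases (show r % 3 = 1 ∨ r % 3 = 2 by omega) with h' | h'
    · exact dvd_mul_of_dvd_left (by omega) _
    · exact dvd_mul_of_dvd_right (by omega) _
  have h2 : 3 ∣ 2 * Nat.card (Matrix.ProjectiveSpecialLinearGroup (Fin 2) (ZMod r)) := by
    rw [h]; exact dvd_mul_of_dvd_right h1 _
  exact (Nat.prime_three.dvd_mul.1 h2).resolve_left (by norm_num)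

/-- the degree of a linear group -/
theorem dvd_sub_one_of_primitive {p n r : ℕ} (hn : 0 < n) (hp : 1 ≤ p) (hr : r.Prime)
    (hd : r ∣ p ^ n - 1) (hprim : ∀ i, 1 ≤ i → i < n → ¬ r ∣ p ^ i - 1) (hrp : ¬ r ∣ p) :
    n ∣ r - 1 := by
  haveI := Fact.mk hr
  have h1 : ∀ j, (p : ZMod r) ^ j = 1 ↔ r ∣ p ^ j - 1 := fun j => by
    rw [← ZMod.natCast_eq_zero_iff, Nat.cast_sub (Nat.one_le_pow _ _ hp), sub_eq_zero,
      Nat.cast_pow, Nat.cast_one]
  have ho : orderOf (p : ZMod r) = n := by
    rw [orderOf_eq_iff hn]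
    exact ⟨(h1 _).2 hd, fun j hj hj0 e => hprim j hj0 hj ((h1 j).1 e)⟩
  rw [← ho]
  exact ZMod.orderOf_dvd_card_sub_one fun e => hrp ((ZMod.natCast_eq_zero_iff p r).1 e)

/-- the arithmetic of the case `PSL₂(2n+1)` -/
theorem no_psl_case {p n d r N : ℕ} (hp : p.Prime) (hn : 3 ≤ n) (hrn : r = 2 * n + 1) (hr : r.Prime)
    (hN : 2 * N = r * ((r - 1) * (r + 1))) (hd : d ∣ n) (hdn : d < n) (hpN : ¬ p ∣ N) (hp2 : p ≠ 2)
    (hp3 : p ≠ 3) (hdvd : p ^ n - 1 ∣ (p ^ d - 1) * N) : False := by
  subst hrn
  have hNeq : N = (2 * n + 1) * (n * (2 * n + 2)) := by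
    rw [show 2 * n + 1 - 1 = 2 * n by omega] at hN
    have : 2 * N = 2 * ((2 * n + 1) * (n * (2 * n + 2))) := by rw [hN]; ring
    omega
  have hd0 : 0 < d := Nat.pos_of_dvd_of_pos hd (by omega)
  have h2d : 2 * d ≤ n := by
    obtain ⟨c, hc⟩ := hd
    have : 2 ≤ c := by
      by_contra hlt
      interval_cases c <;> omega
    calc 2 * d = d * 2 := mul_comm 2 d
      _ ≤ d * c := Nat.mul_le_mul_left d this
      _ = n := hc.symm
  have hp5 : 5 ≤ p := by
    have := hp.two_le
    by_contra hlt
    interval_cases p <;> first | omega | (norm_num at hp)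
  have hpd : 1 ≤ p ^ d := Nat.one_le_pow _ _ hp.pos
  have hsum : d + (n - d) = n := by omega
  have hbound : p ^ (n - d) ≤ N := by
    have hpos : 0 < p ^ d - 1 := Nat.sub_pos_of_lt (Nat.one_lt_pow (by omega) hp.one_lt)
    have hNpos : 0 < N := by rw [hNeq]; positivity
    have h1 := Nat.le_of_dvd (Nat.mul_pos hpos hNpos) hdvd
    have h2 : (p ^ d - 1) * p ^ (n - d) ≤ p ^ n - 1 := by
      rw [Nat.sub_mul, one_mul, ← pow_add, hsum]
      exact Nat.sub_le_sub_left (Nat.one_le_pow _ _ hp.pos) _
    exact Nat.le_of_mul_le_mul_left (h2.trans h1) hpos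
  have hgrow : ∀ m, 6 ≤ m → (4 * m + 3) * ((2 * m + 1) * (4 * m + 4)) < 5 ^ m := by
    intro m hm
    induction m, hm using Nat.le_induction with
    | base => norm_num
    | succ m hm ih =>
      rw [pow_succ]
      have h1 : (4 * (m + 1) + 3) * ((2 * (m + 1) + 1) * (4 * (m + 1) + 4)) ≤
          2 * (4 * m + 3) * (2 * ((2 * m + 1) * (4 * m + 4))) :=
        Nat.mul_le_mul (by omega) (by nlinarith)
      nlinarith
  have hn11 : n ≤ 11 := by
    by_contra hlt
    have h1 : 5 ^ (n / 2) ≤ p ^ (n - d) :=
      (Nat.pow_le_pow_left hp5 _).trans (Nat.pow_le_pow_right hp.pos (by omega))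
    have h2 : N ≤ (4 * (n / 2) + 3) * ((2 * (n / 2) + 1) * (4 * (n / 2) + 4)) := by
      rw [hNeq]
      exact Nat.mul_le_mul (by omega) (Nat.mul_le_mul (by omega) (by omega))
    have := hgrow (n / 2) (by omega)
    omega
  have hp12 : p < 13 := by
    by_contra hge
    push Not at hge
    have h1 : 13 ^ (n - d) ≤ p ^ (n - d) := Nat.pow_le_pow_left hge _
    rw [hNeq] at hbound
    interval_cases n <;> (try norm_num at hr) <;> interval_cases d <;> (try norm_num at hd) <;>
      norm_num at h1 hbound <;> omega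
  rw [hNeq] at hdvd hpN
  interval_cases n <;> interval_cases d <;> (try norm_num at hr) <;> (try norm_num at hd) <;>
    interval_cases p <;> (revert hdvd hpN hp; norm_num)

variable {p : ℕ} [hp : Fact p.Prime] {V : Type*} [AddCommGroup V] [Module (ZMod p) V] [Finite V]
variable {H : Subgroup (V ≃ₗ[ZMod p] V)}

theorem primitive_irrElt {n r : ℕ} (hr : r.Prime) (hV : Nat.card V = p ^ n)
    (hprim : ∀ i, 1 ≤ i → i < n → ¬ r ∣ p ^ i - 1) (hrp : r ≠ p) {x : H} (hx : orderOf x = r) :
    IrrElt x :=
  fun U hU => TransLinear.irreducible_of_primitive hr hV (fun j hj => hprim j hj) hrp hx U hU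

/-- facts about an abelian normal subgroup -/
theorem abelian_normal_facts [Nontrivial V] (hT : Trans H) {n : ℕ}
    (hn : Module.finrank (ZMod p) V = n) (A : Subgroup H) (hAn : A.Normal)
    (hAc : IsMulCommutative A) :
    ∃ k : ℕ, k ∣ n ∧ Nat.card (alg A) = p ^ k ∧ Nat.card A ∣ p ^ k - 1 ∧
      (k = n → ∀ a ∈ Subgroup.centralizer (A : Set H), ∀ b ∈ Subgroup.centralizer (A : Set H),
        a * b = b * a) := by
  classical
  haveI := finite_end (p := p) (V := V)
  obtain ⟨W, -, hW⟩ := exists_irr_le (A := A) inv_top (top_ne_bot (α := Submodule (ZMod p) V))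
  set k := Module.finrank (ZMod p) W with hkdef
  have hK : Nat.card (alg A) = p ^ k := by
    rw [TransLinear.card_alg hT hAn hAc hW, Module.natCard_eq_pow_finrank (K := ZMod p) (V := W),
      Nat.card_zmod]
  refine ⟨k, ?_, hK, TransLinear.card_dvd_sub_one hT hAn hAc hK, fun hkn a ha b hb => ?_⟩
  · letI : CommRing (alg A) :=
      { (inferInstance : Ring (alg A)) with
        mul_comm := fun x y => Subtype.ext (alg_comm hAc x.2 y.2) }
    haveI : IsDomain (alg A) := TransLinear.alg_isDomain hT hAn hAc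
    have := Fintype.ofFinite (alg A)
    letI : Field (alg A) := Fintype.fieldOfDomain (alg A)
    refine ⟨Module.finrank (alg A) V, ?_⟩
    have h := Module.natCard_eq_pow_finrank (K := alg A) (V := V)
    rw [hK, Module.natCard_eq_pow_finrank (K := ZMod p) (V := V), Nat.card_zmod, ← pow_mul, hn] at h
    exact Nat.pow_right_injective hp.out.two_le h
  · have hWt : W = ⊤ := Submodule.eq_top_of_finrank_eq (by rw [← hkdef, hkn, hn])
    apply endH_injective
    rw [map_mul, map_mul]
    have hmem : ∀ c ∈ Subgroup.centralizer (A : Set H),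
        endH H c ∈ Subalgebra.centralizer (ZMod p) (endH H '' (A : Set H)) := by
      intro c hc
      rw [Subalgebra.mem_centralizer_iff]
      rintro _ ⟨s, hs, rfl⟩
      rw [← map_mul, ← map_mul, Subgroup.mem_centralizer_iff.1 hc s hs]
    refine centralizer_comm _ (fun U hU => ?_) (hmem a ha) (hmem b hb)
    rw [hWt] at hW
    exact hW.2.2 U le_top fun s hs w hw => hU _ ⟨s, hs, rfl⟩ w hw

/-- a large prime has a normal Sylow subgroup -/
theorem normal_large_sylow (hcop : ¬ p ∣ Nat.card H) {n : ℕ}
    (hn : Module.finrank (ZMod p) V = n) (r : ℕ) [hr : Fact r.Prime] (hrn : n + 1 < r)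
    (hlow : 2 * n + 1 ≤ r) (heq : r = 2 * n + 1 → ¬ 3 ∣ Nat.card H) (h3r : 3 < r) (P : Sylow r H) :
    (P : Subgroup H).Normal := by
  haveI := finite_H (H := H)
  obtain ⟨τ, hτ⟩ := exists_faithful_rep hcop hn
  refine S0899.result n τ hτ r (Or.inr ⟨hrn, fun K hK Q => ?_⟩) P
  by_cases hd : r ∣ Nat.card K
  swap
  · have h1 : (Q : Subgroup K) = ⊥ := by
      obtain ⟨j, hj⟩ := IsPGroup.iff_card.1 Q.2
      rcases Nat.eq_zero_or_pos j with rfl | hj0
      · exact Subgroup.card_eq_one.1 (by rwa [pow_zero] at hj)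
      · exact absurd ((dvd_pow_self r hj0.ne').trans (hj ▸ Subgroup.card_subgroup_dvd_card _)) hd
    rw [h1]
    infer_instance
  by_contra hQ
  have hnn : ∀ M : Subgroup K, M.Normal → Nat.card M ≠ r := by
    intro M hM hMc
    have hfac : (Nat.card K).factorization r = 1 := by
      have h0 := (hr.out.dvd_iff_one_le_factorization Nat.card_pos.ne').1 hd
      by_contra hne
      exact hK ((hr.out.pow_dvd_iff_le_factorization Nat.card_pos.ne').2 (by omega))
    have hM' : Nat.card M = r ^ (Nat.card K).factorization r := by rw [hMc, hfac, pow_one]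
    let S := Sylow.ofCard M hM'
    have hS : (S : Subgroup K).Normal := by rw [Sylow.coe_ofCard]; exact hM
    haveI := Sylow.unique_of_normal S hS
    apply hQ
    rw [Subsingleton.elim Q S]
    exact hS
  obtain ⟨χ, hχ, hfaith, hdeg⟩ := exists_faithful_char hcop hn K
  have h1 := S4503.result r hr.out hd hK hnn χ hχ hfaith
  rw [hdeg] at h1
  have hr2 : r = 2 * n + 1 := by omega
  obtain ⟨e⟩ := S4504.result r hr.out hd hK hnn χ hχ hfaith (by rw [hdeg]; omega)
  apply heq hr2
  refine (three_dvd_card_psl r h3r).trans ?_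
  rw [← Nat.card_congr e.toEquiv]
  exact (Subgroup.card_quotient_dvd_card _).trans (Subgroup.card_subgroup_dvd_card K)

/-- the generic case -/
theorem solvable_generic [Nontrivial V] (hcop : ¬ p ∣ Nat.card H) {n : ℕ}
    (hn : Module.finrank (ZMod p) V = n) (hn3 : 3 ≤ n) (hp2 : p ≠ 2) (hT : Trans H) {r : ℕ}
    (hr : r.Prime) (hd : r ∣ p ^ n - 1) (hprim : ∀ i, 1 ≤ i → i < n → ¬ r ∣ p ^ i - 1)
    (hbig : n + 1 < r ∨ r ^ 2 ∣ p ^ n - 1) : Group.IsSolvable H := by
  classical
  haveI := finite_H (H := H)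
  haveI := Fact.mk hr
  have hV : Nat.card V = p ^ n := by
    rw [Module.natCard_eq_pow_finrank (K := ZMod p) (V := V), hn, Nat.card_zmod]
  have hcardH : p ^ n - 1 ∣ Nat.card H := hV ▸ TransLinear.card_dvd_of_trans hT
  have hrH := hd.trans hcardH
  have hrp : r ≠ p := fun e => hcop (e ▸ hrH)
  have hrp' : ¬ r ∣ p := fun h => hrp ((Nat.prime_dvd_prime_iff_eq hr hp.out).1 h)
  have hnr := dvd_sub_one_of_primitive (by omega) hp.out.one_le hr hd hprim hrp'
  have hnr1 : n + 1 ≤ r := by
    have := Nat.le_of_dvd (by have := hr.two_le; omega) hnr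
    omega
  obtain ⟨R⟩ := (inferInstance : Nonempty (Sylow r H))
  have hRne : (R : Subgroup H) ≠ ⊥ := R.ne_bot_of_dvd_card hrH
  obtain ⟨k, hk⟩ := IsPGroup.iff_card.1 R.2
  -- a central element of order r
  haveI : Nontrivial (R : Subgroup H) := (Subgroup.nontrivial_iff_ne_bot _).2 hRne
  haveI := R.2.center_nontrivial
  obtain ⟨z, hz⟩ : ∃ z : Subgroup.center (R : Subgroup H), orderOf z = r := by
    have h1 : IsPGroup r (Subgroup.center (R : Subgroup H)) := R.2.to_subgroup _
    obtain ⟨c, hc⟩ := IsPGroup.iff_card.1 h1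
    refine exists_prime_orderOf_dvd_card' r ?_
    have h2 := Finite.one_lt_card (α := Subgroup.center (R : Subgroup H))
    rw [hc]
    refine dvd_pow_self r fun h0 => ?_
    rw [hc, h0, pow_zero] at h2
    omega
  set x : H := ((z : (R : Subgroup H)) : H)
  have hx : orderOf x = r := by rw [Subgroup.orderOf_coe, Subgroup.orderOf_coe, hz]
  have hxirr : IrrElt x := primitive_irrElt hr hV hprim hrp hx
  have hRx : (R : Subgroup H) ≤ Subgroup.centralizer ({x} : Set H) := fun y hy =>
    Subgroup.mem_centralizer_singleton_iff.2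
      (congrArg Subtype.val (Subgroup.mem_center_iff.1 z.2 ⟨y, hy⟩))
  have hCR : Subgroup.centralizer ((R : Subgroup H) : Set H) ≤ Subgroup.centralizer ({x} : Set H) :=
    Subgroup.centralizer_le (Set.singleton_subset_iff.2 (z : (R : Subgroup H)).2)
  haveI hCcyc := isCyclic_centralizer hxirr
  have hnormal : (R : Subgroup H).Normal → Group.IsSolvable H := by
    intro hRn
    haveI := hRn
    haveI : IsCyclic (R : Subgroup H) :=
      isCyclic_of_injective (Subgroup.inclusion hRx) (Subgroup.inclusion_injective hRx)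
    haveI : Group.IsSolvable (Subgroup.centralizer ((R : Subgroup H) : Set H)) :=
      Group.isSolvable_of_comm fun a b => Subtype.ext (comm_of_irrElt hxirr (hCR a.2) (hCR b.2))
    exact solvable_of_cyclic_normal (R : Subgroup H)
  by_cases hsq : r ^ 2 ∣ Nat.card H
  · refine hnormal ?_
    obtain ⟨χ, hχ, hfaith, hdeg⟩ := exists_faithful_char hcop hn (⊤ : Subgroup H)
    let e : H ≃* (⊤ : Subgroup H) := Subgroup.topEquiv.symm
    have hχ' : Cfsg.IsCharacter H (fun g => χ (e g)) := by
      obtain ⟨m, τ, hτ⟩ := hχ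
      exact ⟨m, τ.comp e.toMonoidHom, funext fun g => by rw [← hτ]; rfl⟩
    refine S4485.result r hr hrH R (fun y hy hy1 => ?_) k hk (fun g => χ (e g)) hχ' (fun g hg => ?_) ?_
    · obtain ⟨j, hj⟩ := (IsPGroup.iff_orderOf.1 R.2) ⟨y, hy⟩
      rw [← Subgroup.orderOf_coe] at hj
      change orderOf y = r ^ j at hj
      have hj0 : j ≠ 0 := fun h0 => hy1 (orderOf_eq_one_iff.1 (by rw [hj, h0, pow_zero]))
      set y' := y ^ r ^ (j - 1)
      have hy' : orderOf y' = r := by
        rw [orderOf_pow' _ (pow_ne_zero _ hr.ne_zero), hj, Nat.gcd_eq_right (pow_dvd_pow r (by omega)),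
          Nat.pow_div (by omega) hr.pos, show j - (j - 1) = 1 by omega, pow_one]
      have hirr' := primitive_irrElt hr hV hprim hrp hy'
      have hR' : (R : Subgroup H) ≤ Subgroup.centralizer ({y'} : Set H) := fun w hw => by
        rw [Subgroup.mem_centralizer_singleton_iff]
        exact comm_of_irrElt hxirr (hRx hw) (hRx (R.pow_mem hy _))
      refine le_antisymm (fun w hw => ?_) (Subgroup.centralizer_le (Set.singleton_subset_iff.2 hy))
      rw [Subgroup.mem_centralizer_iff]
      intro u hu
      exact comm_of_irrElt hirr' (hR' hu) (Subgroup.mem_centralizer_singleton_iff.2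
        ((show Commute w y from Subgroup.mem_centralizer_singleton_iff.1 hw).pow_right _).eq)
    · have h1 := hfaith (e g) (by rw [map_one] at hg; exact hg)
      exact e.injective (h1.trans (map_one e).symm)
    · have hdeg' : Cfsg.charDegree (fun g => χ (e g)) = n := by
        rw [← hdeg]; simp only [Cfsg.charDegree, map_one]
      rw [hdeg', ← hk]
      have h1 : r ^ 2 ≤ Nat.card R := by
        refine Nat.le_of_dvd Nat.card_pos ?_
        rw [R.card_eq_multiplicity]
        exact pow_dvd_pow r ((hr.pow_dvd_iff_le_factorization Nat.card_pos.ne').1 hsq)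
      have h2 : (n + 1) ^ 2 ≤ r ^ 2 := Nat.pow_le_pow_left hnr1 2
      nlinarith
  have hr1 : n + 1 < r := hbig.resolve_right fun h => hsq (h.trans hcardH)
  have hlow : 2 * n + 1 ≤ r := by
    obtain ⟨c, hc⟩ := hnr
    have : 2 ≤ c := by
      by_contra hlt
      interval_cases c <;> omega
    have h2 := Nat.mul_le_mul_left n this
    omega
  by_contra hns
  have hnn : ∀ M : Subgroup H, M.Normal → Nat.card M ≠ r := by
    intro M hM hMc
    apply hns
    refine hnormal ?_
    have hfac : (Nat.card H).factorization r = 1 := by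
      have h0 := (hr.dvd_iff_one_le_factorization Nat.card_pos.ne').1 hrH
      by_contra hne
      exact hsq ((hr.pow_dvd_iff_le_factorization Nat.card_pos.ne').2 (by omega))
    have hM' : Nat.card M = r ^ (Nat.card H).factorization r := by rw [hMc, hfac, pow_one]
    let S := Sylow.ofCard M hM'
    have hS : (S : Subgroup H).Normal := by rw [Sylow.coe_ofCard]; exact hM
    haveI := Sylow.unique_of_normal S hS
    rw [Subsingleton.elim R S]
    exact hS
  obtain ⟨χ, hχ, hfaith, hdeg⟩ := exists_faithful_char hcop hn (⊤ : Subgroup H)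
  let e : H ≃* (⊤ : Subgroup H) := Subgroup.topEquiv.symm
  have hχ' : Cfsg.IsCharacter H (fun g => χ (e g)) := by
    obtain ⟨m, τ, hτ⟩ := hχ
    exact ⟨m, τ.comp e.toMonoidHom, funext fun g => by rw [← hτ]; rfl⟩
  have hfaith' : ∀ g, χ (e g) = χ (e 1) → g = 1 := fun g hg => e.injective
    ((hfaith (e g) (by rw [map_one] at hg; exact hg)).trans (map_one e).symm)
  have hdeg' : Cfsg.charDegree (fun g => χ (e g)) = n := by
    rw [← hdeg]; simp only [Cfsg.charDegree, map_one]
  have h1 := S4503.result r hr hrH hsq hnn _ hχ' hfaith'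
  rw [hdeg'] at h1
  have hreq : r = 2 * n + 1 := by omega
  obtain ⟨iso⟩ := S4504.result r hr hrH hsq hnn _ hχ' hfaith' (by rw [hdeg']; omega)
  set N := Nat.card (Matrix.ProjectiveSpecialLinearGroup (Fin 2) (ZMod r))
  have hHN : Nat.card H = Nat.card (Subgroup.center H) * N := by
    rw [mul_comm, Subgroup.card_eq_card_quotient_mul_card_subgroup (Subgroup.center H),
      Nat.card_congr iso.toEquiv]
  have hpN : ¬ p ∣ N := fun h => hcop (h.trans (hHN ▸ dvd_mul_left _ _))
  have hp3 : p ≠ 3 := fun h3 => hpN (h3 ▸ three_dvd_card_psl r (by omega))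
  obtain ⟨d, hdn, -, hdA, hdcomm⟩ := abelian_normal_facts hT hn (Subgroup.center H) inferInstance
    inferInstance
  rcases Nat.lt_or_ge d n with hlt | hge
  · refine no_psl_case (d := d) (N := N) hp.out hn3 hreq hr (two_mul_card_psl r (by omega)) hdn hlt
      hpN hp2 hp3 ?_
    exact hcardH.trans (hHN ▸ Nat.mul_dvd_mul_right hdA N)
  · have hd' : d = n := le_antisymm (Nat.le_of_dvd (by omega) hdn) hge
    have htop : ∀ a : H, a ∈ Subgroup.centralizer ((Subgroup.center H : Subgroup H) : Set H) := fun a => by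
      rw [Subgroup.mem_centralizer_iff]
      exact fun u hu => (Subgroup.mem_center_iff.1 hu a).symm
    exact hns (Group.isSolvable_of_comm fun a b => hdcomm hd' a (htop a) b (htop b))

/-- the three exceptional parameters, through a large prime -/
theorem solvable_special [Nontrivial V] (hcop : ¬ p ∣ Nat.card H) {n : ℕ}
    (hn : Module.finrank (ZMod p) V = n) (hT : Trans H) (r : ℕ) [hr : Fact r.Prime]
    (hrn : n + 1 < r) (hlow : 2 * n + 1 ≤ r) (heq : r = 2 * n + 1 → ¬ 3 ∣ Nat.card H) (h3r : 3 < r)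
    (hrH : r ∣ Nat.card H) (hp60 : p ∣ 60) (hp2 : p ≠ 2)
    (hk : ∀ k, k ∣ n → r ∣ p ^ k - 1 → k = n ∨ 2 * k = n) : Group.IsSolvable H := by
  classical
  haveI := finite_H (H := H)
  obtain ⟨R⟩ := (inferInstance : Nonempty (Sylow r H))
  haveI hRn := normal_large_sylow hcop hn r hrn hlow heq h3r R
  haveI hRc : (R : Subgroup H).Characteristic := R.characteristic_of_normal hRn
  set A := (Subgroup.center (R : Subgroup H)).map (R : Subgroup H).subtype
  have hRne : (R : Subgroup H) ≠ ⊥ := R.ne_bot_of_dvd_card hrH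
  haveI : Nontrivial (R : Subgroup H) := (Subgroup.nontrivial_iff_ne_bot _).2 hRne
  haveI := R.2.center_nontrivial
  haveI hAn : A.Normal := inferInstance
  haveI hAc : IsMulCommutative A := inferInstance
  haveI hAcyc : IsCyclic A := TransLinear.isCyclic_of_comm hT hAn hAc
  have hrA : r ∣ Nat.card A := by
    have h1 : IsPGroup r (Subgroup.center (R : Subgroup H)) := R.2.to_subgroup _
    obtain ⟨c, hc⟩ := IsPGroup.iff_card.1 h1
    have h2 := Finite.one_lt_card (α := Subgroup.center (R : Subgroup H))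
    rw [Subgroup.card_map_of_injective (R : Subgroup H).subtype_injective, hc]
    refine dvd_pow_self r fun h0 => ?_
    rw [hc, h0, pow_zero] at h2
    omega
  obtain ⟨k, hkn, hK, hAk, hcomm⟩ := abelian_normal_facts hT hn A hAn hAc
  set C := Subgroup.centralizer (A : Set H)
  haveI : Group.IsSolvable C := by
    rcases hk k hkn (hrA.trans hAk) with h | h
    · exact Group.isSolvable_of_comm fun a b => Subtype.ext (hcomm h a a.2 b b.2)
    haveI := finite_end (p := p) (V := V)
    letI : CommRing (alg A) :=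
      { (inferInstance : Ring (alg A)) with
        mul_comm := fun x y => Subtype.ext (alg_comm hAc x.2 y.2) }
    haveI : IsDomain (alg A) := TransLinear.alg_isDomain hT hAn hAc
    have := Fintype.ofFinite (alg A)
    letI : Field (alg A) := Fintype.fieldOfDomain (alg A)
    haveI : CharP (alg A) p :=
      charP_of_injective_ringHom (algebraMap (ZMod p) (alg A)).injective p
    haveI : Module.Finite (alg A) V := Module.Finite.of_finite
    have hrank : Module.finrank (alg A) V = 2 := by
      have h1 := Module.natCard_eq_pow_finrank (K := alg A) (V := V)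
      rw [hK, Module.natCard_eq_pow_finrank (K := ZMod p) (V := V), Nat.card_zmod, ← pow_mul, hn] at h1
      have h2 := Nat.pow_right_injective hp.out.two_le h1
      have hn0 : 0 < n := hn ▸ Module.finrank_pos
      have hk0 : 0 < k := by omega
      exact (Nat.eq_of_mul_eq_mul_left hk0 (by omega : k * 2 = k * Module.finrank (alg A) V)).symm
    let lin : C →* Module.End (alg A) V :=
      { toFun := fun z =>
          { toFun := fun v => endH H (z : H) v
            map_add' := fun v w => map_add _ v w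
            map_smul' := fun t v => by
              show endH H (z : H) ((t : Module.End (ZMod p) V) v)
                = (t : Module.End (ZMod p) V) (endH H (z : H) v)
              rw [← Module.End.mul_apply, TransLinear.endH_comm_alg z.2 t.2, Module.End.mul_apply] }
        map_one' := LinearMap.ext fun v => by
          show endH H ((1 : C) : H) v = v
          rw [Subgroup.coe_one, map_one, Module.End.one_apply]
        map_mul' := fun a b => LinearMap.ext fun v => by
          show endH H ((a * b : C) : H) v = endH H (a : H) (endH H (b : H) v)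
          rw [Subgroup.coe_mul, map_mul, Module.End.mul_apply] }
    let b := Module.finBasisOfFinrankEq (alg A) V hrank
    refine solvable_of_GL2 p hp60 hp2
      ((LinearMap.toMatrixAlgEquiv b).toMonoidHom.comp lin).toHomUnits (fun u w e => ?_)
      (fun h => hcop (h.trans (Subgroup.card_subgroup_dvd_card C)))
    have h1 := (LinearMap.toMatrixAlgEquiv b).injective (congrArg Units.val e)
    exact Subtype.ext (endH_injective (LinearMap.ext fun v =>
      LinearMap.congr_fun (show lin u = lin w from h1) v))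
  exact solvable_of_cyclic_normal A

/-- coprime transitive linear groups of dimension at least three are solvable -/
theorem solvable_of_trans [Nontrivial V] (hcop : ¬ p ∣ Nat.card H) {n : ℕ}
    (hn : Module.finrank (ZMod p) V = n) (hn3 : 3 ≤ n) (hT : Trans H) : Group.IsSolvable H := by
  classical
  haveI := finite_H (H := H)
  rcases eq_or_ne p 2 with hp2 | hp2
  · subst hp2
    exact S0205.result (Nat.odd_iff.2 (Nat.two_dvd_ne_zero.1 hcop))
  have hV : Nat.card V = p ^ n := by
    rw [Module.natCard_eq_pow_finrank (K := ZMod p) (V := V), hn, Nat.card_zmod]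
  have hcardH : p ^ n - 1 ∣ Nat.card H := hV ▸ TransLinear.card_dvd_of_trans hT
  by_cases h34 : p = 3 ∧ n = 4
  · obtain ⟨rfl, rfl⟩ := h34
    by_cases h13 : 13 ∣ Nat.card H
    · haveI : Fact (Nat.Prime 13) := ⟨by norm_num⟩
      refine solvable_special hcop hn hT 13 (by norm_num) (by norm_num) (by norm_num) (by norm_num)
        h13 (by norm_num) hp2 fun k hk h => ?_
      have := Nat.le_of_dvd (by norm_num) hk
      interval_cases k <;> (revert h hk; norm_num)
    · let b := Module.finBasisOfFinrankEq (ZMod 3) V hn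
      let ρ : H →* GL (Fin 4) (ZMod 3) :=
        ((LinearMap.toMatrixAlgEquiv b).toMonoidHom.comp (endH H)).toHomUnits
      have hρ : Function.Injective ρ := fun g h e =>
        endH_injective ((LinearMap.toMatrixAlgEquiv b).injective (congrArg Units.val e))
      have hdvd := Subgroup.card_dvd_of_injective ρ hρ
      rw [Matrix.card_GL_field, ZMod.card, Fin.prod_univ_four,
        show (3 ^ 4 - 3 ^ ((0 : Fin 4) : ℕ)) * (3 ^ 4 - 3 ^ ((1 : Fin 4) : ℕ)) *
            (3 ^ 4 - 3 ^ ((2 : Fin 4) : ℕ)) * (3 ^ 4 - 3 ^ ((3 : Fin 4) : ℕ)) =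
          (2 ^ 9 * 5) * (3 ^ 6 * 13) by norm_num] at hdvd
      have hco : (Nat.card H).Coprime (3 ^ 6 * 13) :=
        Nat.Coprime.mul_right ((Nat.prime_three.coprime_iff_not_dvd.2 hcop).symm.pow_right 6)
          ((Nat.Prime.coprime_iff_not_dvd (by norm_num)).2 h13).symm
      have h1 := hco.dvd_of_dvd_mul_right hdvd
      obtain ⟨a, c, ha, hc, hac⟩ := Nat.dvd_mul.1 h1
      obtain ⟨i, -, hi⟩ := (Nat.dvd_prime_pow Nat.prime_two).1 ha
      obtain ⟨j, -, hj⟩ := (Nat.dvd_prime_pow (by norm_num : Nat.Prime 5)).1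
        (show c ∣ 5 ^ 1 by simpa using hc)
      exact Characters.burnside_pa_qb (p := 2) (q := 5) (a := i) (b := j) Nat.prime_two (by norm_num)
        (by rw [← hac, hi, hj])
  by_cases h36 : p = 3 ∧ n = 6
  · obtain ⟨rfl, rfl⟩ := h36
    haveI : Fact (Nat.Prime 13) := ⟨by norm_num⟩
    refine solvable_special hcop hn hT 13 (by norm_num) (by norm_num) (fun _ => hcop) (by norm_num)
      ((by norm_num : 13 ∣ 3 ^ 6 - 1).trans hcardH) (by norm_num) hp2 fun k hk h => ?_
    have := Nat.le_of_dvd (by norm_num) hk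
    interval_cases k <;> (revert h hk; norm_num)
  by_cases h56 : p = 5 ∧ n = 6
  · obtain ⟨rfl, rfl⟩ := h56
    haveI : Fact (Nat.Prime 31) := ⟨by norm_num⟩
    refine solvable_special hcop hn hT 31 (by norm_num) (by norm_num) (fun h => by norm_num at h)
      (by norm_num)
      ((by norm_num : 31 ∣ 5 ^ 6 - 1).trans hcardH) (by norm_num) hp2 fun k hk h => ?_
    have := Nat.le_of_dvd (by norm_num) hk
    interval_cases k <;> (revert h hk; norm_num)
  obtain ⟨r, hr, hd, hprim, hbig⟩ := S3430.result p n hp.out.two_le (by omega)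
    (fun h => by omega) (fun h => hp2 h.1)
    (fun h => h.2.elim (fun e => h34 ⟨h.1, e⟩) fun e => h36 ⟨h.1, e⟩) h56
  exact solvable_generic hcop hn hn3 hp2 hT hr hd hprim hbig

end Cfsg.Agent.Perm.TransCoprime
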