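import Mathlib
import Cfsg.Agent.Lib.Perm.TransCoprime.Solvable
import Cfsg.Agent.Lib.Perm.TransCoprime.Plane

/-!
# A coprime transitive linear group has two classes of irreducible elements
-/

set_option autoImplicit false
set_option linter.style.haveILetI false
set_option linter.unusedSectionVars false

namespace Cfsg.Agent.Perm.TransCoprime

open TransLinear (Trans)
open NearField (endH endH_apply endH_injective finite_end finite_H)

variable {p : ℕ} [hp : Fact p.Prime] {V : Type*} [AddCommGroup V] [Module (ZMod p) V] [Finite V]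
variable {H : Subgroup (V ≃ₗ[ZMod p] V)}

theorem one_app (v : V) : (1 : V ≃ₗ[ZMod p] V) v = v := rfl

theorem sq_sub_one_eq (q : ℕ) : q ^ 2 - 1 = (q + 1) * (q - 1) := by
  simpa using Nat.sq_sub_sq q 1

/-- two nonconjugate irreducible elements -/
def TwoIrr (H : Subgroup (V ≃ₗ[ZMod p] V)) : Prop :=
  ∃ g₁ g₂ : H, g₁ ≠ 1 ∧ g₂ ≠ 1 ∧ ¬ IsConj g₁ g₂ ∧ IrrElt g₁ ∧ IrrElt g₂

theorem inv_pow_invariant {x : H} {U : Submodule (ZMod p) V} (hU : ∀ v ∈ U, endH H x v ∈ U)
    {y : H} (hy : y ∈ Subgroup.zpowers x) : ∀ v ∈ U, endH H y v ∈ U := by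
  haveI := finite_H (H := H)
  obtain ⟨j, rfl⟩ := mem_powers_iff_mem_zpowers.2 hy
  clear hy
  induction j with
  | zero => intro v hv; simpa using hv
  | succ j ih => intro v hv; simp only [pow_succ, map_mul]; exact ih _ (hU v hv)

theorem irrElt_of_zpowers_eq {x y : H} (h : IrrElt x) (hxy : x ∈ Subgroup.zpowers y) : IrrElt y :=
  fun U hU => h U (inv_pow_invariant hU hxy)

theorem irrElt_ne_one (hn : 2 ≤ Module.finrank (ZMod p) V) {x : H} (hx : IrrElt x) : x ≠ 1 := by
  rintro rfl
  haveI : Nontrivial V := Module.nontrivial_of_finrank_pos (R := ZMod p) (by omega)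
  obtain ⟨v, hv⟩ := exists_ne (0 : V)
  rcases hx (Submodule.span (ZMod p) {v}) (fun w hw => by simpa using hw) with h | h
  · exact hv (Submodule.span_singleton_eq_bot.1 h)
  · have h1 := finrank_span_singleton (K := ZMod p) hv
    rw [h, finrank_top] at h1
    omega

/-- an element of large order acting freely is irreducible -/
theorem irrElt_of_free {n : ℕ} (hn : Module.finrank (ZMod p) V = n) {x : H}
    (hfree : ∀ g ∈ Subgroup.zpowers x, ∀ v : V, v ≠ 0 → (g : V ≃ₗ[ZMod p] V) v = v → g = 1)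
    (hbig : ∀ d, 0 < d → d ∣ n → d < n → ¬ orderOf x ∣ p ^ d - 1) : IrrElt x := by
  classical
  haveI := finite_H (H := H)
  intro U hU
  by_contra! h
  obtain ⟨hb, ht⟩ := h
  set d := Module.finrank (ZMod p) U
  have hd0 : 0 < d := Nat.pos_of_ne_zero fun e => hb (Submodule.finrank_eq_zero.1 e)
  have hdn : d < n := hn ▸ Submodule.finrank_lt ht
  set L := Subgroup.zpowers x
  haveI := Fintype.ofFinite U
  let Y := {v : U // v ≠ 0}
  letI : MulAction L Y :=
    { smul := fun a v => ⟨⟨endH H (a : H) (v.1 : V), inv_pow_invariant hU a.2 _ v.1.2⟩, fun e =>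
        v.2 (Subtype.ext ((((a : H) : V ≃ₗ[ZMod p] V).map_eq_zero_iff).1 (congrArg Subtype.val e)))⟩
      one_smul := fun v => Subtype.ext (Subtype.ext rfl)
      mul_smul := fun a b v => Subtype.ext (Subtype.ext rfl) }
  have hst : ∀ y : Y, MulAction.stabilizer L y = ⊥ := fun y =>
    (Subgroup.eq_bot_iff_forall _).2 fun a ha =>
      Subtype.ext (hfree a a.2 (y.1 : V) (fun e => y.2 (Subtype.ext e))
        (congrArg Subtype.val (congrArg Subtype.val ha)))
  have hY : Nat.card Y = p ^ d - 1 := by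
    rw [Nat.card_eq_fintype_card, Fintype.card_subtype_compl, Fintype.card_subtype_eq,
      ← Nat.card_eq_fintype_card, Module.natCard_eq_pow_finrank (K := ZMod p) (V := U),
      Nat.card_zmod]
  have h1 : orderOf x ∣ p ^ d - 1 := by
    rw [← hY, ← Nat.card_zpowers, Nat.card_congr (MulAction.selfEquivOrbitsQuotientProd hst),
      Nat.card_prod]
    exact dvd_mul_left _ _
  have h2 : orderOf x ∣ p ^ n - 1 := by
    have h := card_dvd_of_free L hfree
    rwa [Module.natCard_eq_pow_finrank (K := ZMod p) (V := V), Nat.card_zmod, hn,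
      Nat.card_zpowers] at h
  have h3 := Nat.dvd_gcd h1 h2
  rw [Nat.pow_sub_one_gcd_pow_sub_one] at h3
  exact hbig _ (Nat.gcd_pos_of_pos_left _ hd0) (Nat.gcd_dvd_right d n)
    ((Nat.le_of_dvd hd0 (Nat.gcd_dvd_left d n)).trans_lt hdn) h3

/-- a semilinear group has a cyclic freely acting normal part of small index -/
theorem semilinear_part {n : ℕ} (hn : Module.finrank (ZMod p) V = n)
    (hsl : ∃ (F : Type) (_ : Field F) (_ : Fintype F) (e : V ≃+ F),
      ∀ h : H, ∃ (a : F) (σ : F ≃+* F), ∀ v : V, e ((h : V ≃ₗ[ZMod p] V) v) = a * σ (e v)) :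
    ∃ A : Subgroup H, IsCyclic A ∧ A.index ∣ n ∧
      ∀ g ∈ A, ∀ v : V, v ≠ 0 → (g : V ≃ₗ[ZMod p] V) v = v → g = 1 := by
  classical
  haveI := finite_H (H := H)
  obtain ⟨F, iF, iF', e, hsl⟩ := hsl
  choose a σ hslf using hsl
  have hq : Nat.card F = p ^ n := by
    rw [← Nat.card_congr e.toEquiv, Module.natCard_eq_pow_finrank (K := ZMod p) (V := V), hn,
      Nat.card_zmod]
  haveI hchar : CharP F p := by
    refine (CharP.charP_iff_prime_eq_zero hp.out).2 ?_
    have h1 : (p : F) = p • (1 : F) := by rw [nsmul_eq_mul, mul_one]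
    rw [h1, ← e.apply_symm_apply 1, ← map_nsmul e, ← Nat.cast_smul_eq_nsmul (ZMod p),
      ZMod.natCast_self, zero_smul, map_zero]
  letI : Algebra (ZMod p) F := ZMod.algebra F p
  haveI : Module.Finite (ZMod p) F := Module.Finite.of_finite
  have hform : ∀ (g : H) (x : F), e ((g : V ≃ₗ[ZMod p] V) (e.symm x)) = a g * σ g x := fun g x => by
    rw [hslf, e.apply_symm_apply]
  have ha : ∀ g : H, a g ≠ 0 := fun g h0 => by
    have h := hform g 1
    rw [h0, zero_mul, ← map_zero e] at h
    have h1 := ((g : V ≃ₗ[ZMod p] V).map_eq_zero_iff).1 (e.injective h)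
    exact one_ne_zero (e.symm.injective (h1.trans (map_zero e.symm).symm))
  have hmul : ∀ g h : H, a (g * h) = a g * σ g (a h) ∧ σ (g * h) = (σ h).trans (σ g) := by
    intro g h
    have hx : ∀ x, a (g * h) * σ (g * h) x = a g * σ g (a h) * σ g (σ h x) := fun x => by
      rw [← hform, Subgroup.coe_mul, LinearEquiv.mul_apply, hslf g, hform h, map_mul, mul_assoc]
    have h1 : a (g * h) = a g * σ g (a h) := by
      have h2 := hx 1
      rwa [map_one, map_one, map_one, mul_one, mul_one] at h2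
    exact ⟨h1, RingEquiv.ext fun x => mul_left_cancel₀ (h1 ▸ ha _) (h1 ▸ hx x)⟩
  let toA : (F ≃+* F) → (F ≃ₐ[ZMod p] F) := fun τ => AlgEquiv.ofRingEquiv (f := τ) fun r =>
    DFunLike.congr_fun (RingHom.ext_zmod (τ.toRingHom.comp (algebraMap (ZMod p) F))
      (algebraMap (ZMod p) F)) r
  let ψ : H →* (F ≃ₐ[ZMod p] F) := MonoidHom.mk' (fun g => toA (σ g)) fun g h => by
    refine AlgEquiv.ext fun x => ?_
    show σ (g * h) x = σ g (σ h x)
    rw [(hmul g h).2]
    rfl
  have hσA : ∀ g ∈ ψ.ker, ∀ x, σ g x = x := fun g hg x =>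
    AlgEquiv.congr_fun (MonoidHom.mem_ker.1 hg) x
  refine ⟨ψ.ker, ?_, ?_, fun g hg u hu hgu => ?_⟩
  · refine isCyclic_of_subgroup_isDomain ((Units.coeHom F).comp
      (MonoidHom.mk' (fun g : ψ.ker => Units.mk0 (a g) (ha g)) fun g g' => Units.ext (by
        show a ((g * g' : ψ.ker) : H) = a g * a g'
        rw [Subgroup.coe_mul, (hmul g g').1, hσA g g.2]))) fun g g' heq => ?_
    refine Subtype.ext (Subtype.ext (LinearEquiv.ext fun w => e.injective ?_))
    rw [hslf, hslf, hσA _ g.2, hσA _ g'.2]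
    exact congrArg (fun b : F => b * e w) heq
  · rw [Subgroup.index_ker]
    refine (Subgroup.card_subgroup_dvd_card _).trans (dvd_of_eq ?_)
    rw [IsGalois.card_aut_eq_finrank]
    have h := Module.natCard_eq_pow_finrank (K := ZMod p) (V := F)
    rw [hq, Nat.card_zmod] at h
    exact (Nat.pow_right_injective hp.out.two_le h).symm
  · have h1 := hslf g u
    rw [hgu, hσA g hg] at h1
    have hag : a g = 1 := by
      have hne : e u ≠ 0 := fun h0 => hu (e.injective (h0.trans (map_zero e).symm))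
      have h2 : a g * e u = 1 * e u := by rw [one_mul, ← h1]
      exact mul_right_cancel₀ hne h2
    refine Subtype.ext (LinearEquiv.ext fun w => e.injective ?_)
    rw [hslf, hag, one_mul, hσA g hg]
    rfl

theorem pow_sub_one_gt {p n d : ℕ} (hp : 2 ≤ p) (hd : 0 < d) (hdn : d ∣ n) (hlt : d < n) (s : ℕ)
    (hs : s * n ≤ p ^ ((n + 1) / 2)) : (p ^ d - 1) * (s * n) < p ^ n - 1 := by
  have h2 : 2 * d ≤ n := by
    obtain ⟨c, rfl⟩ := hdn
    rcases c with _ | _ | c
    · omega
    · omega
    · nlinarith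
  have h3 : s * n ≤ p ^ (n - d) := hs.trans (Nat.pow_le_pow_right (by omega) (by omega))
  have h4 : p ^ d * p ^ (n - d) = p ^ n := by rw [← pow_add]; congr 1; omega
  have h5 : 2 ≤ p ^ (n - d) := hp.trans (Nat.le_self_pow (by omega) p)
  calc (p ^ d - 1) * (s * n) ≤ (p ^ d - 1) * p ^ (n - d) := Nat.mul_le_mul_left _ h3
    _ = p ^ n - p ^ (n - d) := by rw [Nat.sub_mul, one_mul, h4]
    _ < _ := by
      have : p ^ (n - d) ≤ p ^ n := Nat.pow_le_pow_right (by omega) (by omega)
      omega

theorem le_two_pow_half : ∀ n, n ≤ 2 ^ ((n + 1) / 2)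
  | 0 => by norm_num
  | 1 => by norm_num
  | 2 => by norm_num
  | 3 => by norm_num
  | n + 4 => by
    have h := le_two_pow_half (n + 2)
    rw [show (n + 4 + 1) / 2 = (n + 2 + 1) / 2 + 1 by omega, pow_succ]
    omega

theorem two_mul_le_three_pow_half : ∀ n, 3 ≤ n → 2 * n ≤ 3 ^ ((n + 1) / 2)
  | 0, h => by omega
  | 1, h => by omega
  | 2, h => by omega
  | 3, _ => by norm_num
  | 4, _ => by norm_num
  | n + 5, _ => by
    have h := two_mul_le_three_pow_half (n + 3) (by omega)
    rw [show (n + 5 + 1) / 2 = (n + 3 + 1) / 2 + 1 by omega, pow_succ]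
    omega

theorem two_pow_succ_dvd {p : ℕ} (hp : Odd p) : ∀ a m : ℕ, 2 ^ (a + 1) ∣ p ^ (2 ^ a * m) - 1
  | 0, m => by
    obtain ⟨k, hk⟩ := hp.pow (n := 2 ^ 0 * m)
    rw [hk]
    exact ⟨k, by omega⟩
  | a + 1, m => by
    rw [show 2 ^ (a + 1) * m = 2 ^ a * m * 2 by ring, pow_mul]
    rw [sq_sub_one_eq]
    rw [pow_succ, mul_comm (2 ^ (a + 1)) 2]
    refine mul_dvd_mul ?_ (two_pow_succ_dvd hp a m)
    obtain ⟨k, hk⟩ := hp.pow (n := 2 ^ a * m)
    exact ⟨k + 1, by omega⟩

theorem not_conj_of_orderOf {G : Type*} [Group G] {a b : G} (h : orderOf a ≠ orderOf b) :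
    ¬ IsConj a b := fun hc => by
  obtain ⟨u, hu⟩ := isConj_iff.1 hc
  apply h
  rw [← hu]
  exact ((MulAut.conj u).orderOf_eq a).symm

/-- in odd order only the identity is conjugate to its inverse -/
theorem not_conj_inv {G : Type*} [Group G] [Finite G] (hodd : Odd (Nat.card G)) {c : G}
    (hc : c ≠ 1) : ¬ IsConj c c⁻¹ := fun h => by
  obtain ⟨g, hg⟩ := isConj_iff.1 h
  have hg2 : g * g * c = c * (g * g) := by
    have h1 : g * c * g⁻¹ = c⁻¹ := hg
    have h2 : g * c⁻¹ * g⁻¹ = c := by rw [← inv_inj, mul_inv_rev, mul_inv_rev, inv_inv, inv_inv, ← mul_assoc, h1]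
    calc g * g * c = g * (g * c * g⁻¹) * g := by group
      _ = g * c⁻¹ * g := by rw [h1]
      _ = (g * c⁻¹ * g⁻¹) * g * g := by group
      _ = c * (g * g) := by rw [h2, mul_assoc]
  obtain ⟨k, hk⟩ := hodd
  have hgc : g * c = c * g := by
    have h1 : g = (g * g) ^ (k + 1) := by
      have : g ^ (2 * k + 1) = 1 := by rw [← hk]; exact pow_card_eq_one'
      rw [← pow_two, ← pow_mul, show 2 * (k + 1) = 2 * k + 1 + 1 by ring, pow_succ, this, one_mul]
    rw [h1]
    exact (Commute.pow_left (show Commute (g * g) c from hg2) _).eq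
  rw [hgc, mul_inv_cancel_right] at hg
  have hc2 : c ^ 2 = 1 := by rw [pow_two]; nth_rw 2 [hg]; exact mul_inv_cancel c
  apply hc
  have : c ^ (2 * k + 1) = 1 := by rw [← hk]; exact pow_card_eq_one'
  rwa [pow_succ, pow_mul, hc2, one_pow, one_mul] at this

theorem exists_generator [Nontrivial V] {n : ℕ} (hn : Module.finrank (ZMod p) V = n) (hT : Trans H)
    (hsl : ∃ (F : Type) (_ : Field F) (_ : Fintype F) (e : V ≃+ F),
      ∀ h : H, ∃ (a : F) (σ : F ≃+* F), ∀ v : V, e ((h : V ≃ₗ[ZMod p] V) v) = a * σ (e v)) :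
    ∃ c : H, p ^ n - 1 ∣ orderOf c * n ∧
      ∀ g ∈ Subgroup.zpowers c, ∀ v : V, v ≠ 0 → (g : V ≃ₗ[ZMod p] V) v = v → g = 1 := by
  haveI := finite_H (H := H)
  obtain ⟨A, hA, hi, hfree⟩ := semilinear_part hn hsl
  obtain ⟨c, hc⟩ := IsCyclic.exists_generator (α := A)
  have ho : orderOf (c : H) = Nat.card A := by
    rw [Subgroup.orderOf_coe]; exact orderOf_eq_card_of_forall_mem_zpowers hc
  refine ⟨c, ?_, fun g hg => hfree g ((Subgroup.zpowers_le.2 c.2) hg)⟩
  have h1 : p ^ n - 1 ∣ Nat.card H := by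
    have h := TransLinear.card_dvd_of_trans hT
    rwa [Module.natCard_eq_pow_finrank (K := ZMod p) (V := V), Nat.card_zmod, hn] at h
  rw [ho]
  refine h1.trans ?_
  rw [← A.card_mul_index]
  exact Nat.mul_dvd_mul_left _ hi

/-- the even characteristic -/
theorem two_irr_two [Nontrivial V] (hp2 : p = 2) (hcop : ¬ p ∣ Nat.card H) (hT : Trans H)
    (hn2 : 2 ≤ Module.finrank (ZMod p) V) : TwoIrr H := by
  subst hp2
  haveI := finite_H (H := H)
  set n := Module.finrank (ZMod 2) V with hn
  have hodd : Odd (Nat.card H) := Nat.odd_iff.2 (Nat.two_dvd_ne_zero.1 hcop)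
  have hV : Nat.card V = 2 ^ n := by rw [Module.natCard_eq_pow_finrank (K := ZMod 2), Nat.card_zmod]
  rcases TransLinear.semilinear_or_small hT (S0205.result hodd) with hsl | hsmall
  swap
  · exfalso
    have h2 : 2 ∣ Nat.card V := hV ▸ dvd_pow_self 2 (by omega)
    simp only [Set.mem_insert_iff, Set.mem_singleton_iff] at hsmall
    omega
  obtain ⟨c, hc, hfree⟩ := exists_generator hn.symm hT hsl
  have hirr : IrrElt c := by
    refine irrElt_of_free hn.symm hfree fun d hd hdn hlt hdvd => ?_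
    have h1 := pow_sub_one_gt (le_refl 2) hd hdn hlt 1 (by rw [one_mul]; exact le_two_pow_half n)
    rw [one_mul] at h1
    have h2 := Nat.le_of_dvd (Nat.mul_pos (orderOf_pos c) (by omega)) hc
    have h3 := Nat.mul_le_mul_right n (Nat.le_of_dvd (Nat.sub_pos_of_lt
      (Nat.one_lt_pow hd.ne' one_lt_two)) hdvd)
    omega
  have h1 := irrElt_ne_one hn2 hirr
  exact ⟨c, c⁻¹, h1, inv_ne_one.2 h1, not_conj_inv hodd h1, hirr,
    irrElt_of_zpowers_eq hirr (by rw [Subgroup.zpowers_inv]; exact Subgroup.mem_zpowers c)⟩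

/-- the semilinear groups in odd characteristic -/
theorem two_irr_semilinear [Nontrivial V] (hodd : Odd p) (hT : Trans H) {n : ℕ}
    (hn : Module.finrank (ZMod p) V = n) (hn3 : 3 ≤ n)
    (hsl : ∃ (F : Type) (_ : Field F) (_ : Fintype F) (e : V ≃+ F),
      ∀ h : H, ∃ (a : F) (σ : F ≃+* F), ∀ v : V, e ((h : V ≃ₗ[ZMod p] V) v) = a * σ (e v)) :
    TwoIrr H := by
  haveI := finite_H (H := H)
  obtain ⟨c, hc, hfree⟩ := exists_generator hn hT hsl
  have heven : 2 ∣ orderOf c := by
    obtain ⟨a, m, hm, ham⟩ := Nat.exists_eq_two_pow_mul_odd (n := n) (by omega)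
    by_contra h
    have h1 : 2 ^ (a + 1) ∣ orderOf c * n := (two_pow_succ_dvd hodd a m).trans (by rwa [← ham])
    have h2 := (Nat.Coprime.pow_left (a + 1) ((Nat.prime_two.coprime_iff_not_dvd).2 h)).dvd_of_dvd_mul_left h1
    rw [ham, pow_succ] at h2
    exact (Nat.not_even_iff_odd.2 hm) (even_iff_two_dvd.2
      (Nat.dvd_of_mul_dvd_mul_left (by positivity) h2))
  have hp3 : 3 ≤ p := by
    have := hp.out.two_le
    obtain ⟨k, hk⟩ := hodd
    omega
  have ho2 : orderOf (c ^ 2) * 2 = orderOf c := by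
    rw [orderOf_pow_of_dvd (by norm_num) heven]
    exact Nat.div_mul_cancel heven
  have hsub : Subgroup.zpowers (c ^ 2) ≤ Subgroup.zpowers c :=
    Subgroup.zpowers_le.2 (Subgroup.pow_mem _ (Subgroup.mem_zpowers c) 2)
  have hirr : IrrElt (c ^ 2) := by
    refine irrElt_of_free hn (fun g hg => hfree g (hsub hg)) fun d hd hdn hlt hdvd => ?_
    have h1 := pow_sub_one_gt hp.out.two_le hd hdn hlt 2 ((two_mul_le_three_pow_half n hn3).trans
      (Nat.pow_le_pow_left hp3 _))
    have h2 := Nat.le_of_dvd (Nat.mul_pos (orderOf_pos c) (by omega)) hc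
    have h3 := Nat.mul_le_mul_right (2 * n) (Nat.le_of_dvd (Nat.sub_pos_of_lt
      (Nat.one_lt_pow hd.ne' hp.out.one_lt)) hdvd)
    rw [← mul_assoc, ho2] at h3
    omega
  have hirr' : IrrElt c := irrElt_of_zpowers_eq hirr (hsub (Subgroup.mem_zpowers _))
  refine ⟨c, c ^ 2, irrElt_ne_one (by omega) hirr', irrElt_ne_one (by omega) hirr,
    not_conj_of_orderOf fun e => ?_, hirr', hirr⟩
  have := orderOf_pos c
  omega

/-- an involution commuting with an irreducible element is the negation -/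
theorem neg_of_comm_irrElt {x z : H} (hx : IrrElt x) (hzx : z * x = x * z) (hz2 : z * z = 1)
    (hz : z ≠ 1) (v : V) : (z : V ≃ₗ[ZMod p] V) v = -v := by
  rcases hx (LinearMap.ker (endH H z - 1)) (fun w hw => by
    rw [LinearMap.mem_ker, LinearMap.sub_apply, Module.End.one_apply, sub_eq_zero] at hw ⊢
    rw [← Module.End.mul_apply, ← map_mul, hzx, map_mul, Module.End.mul_apply, hw]) with h | h
  · have h1 : endH H z v + v ∈ LinearMap.ker (endH H z - 1) := by
      rw [LinearMap.mem_ker, LinearMap.sub_apply, Module.End.one_apply, map_add,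
        ← Module.End.mul_apply, ← map_mul, hz2, map_one, Module.End.one_apply]
      abel
    rw [h, Submodule.mem_bot] at h1
    exact eq_neg_of_add_eq_zero_left h1
  · exact absurd (endH_injective ((sub_eq_zero.1 (LinearMap.ker_eq_top.1 h)).trans (map_one _).symm)) hz

/-- with the negation in the group, an odd order irreducible element gives a second one -/
theorem two_irr_of_neg [Nontrivial V] (hodd : Odd p) {z x : H}
    (hz : ∀ v, (z : V ≃ₗ[ZMod p] V) v = -v) {r : ℕ} (hr : Odd r) (hx : orderOf x = r)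
    (hxirr : IrrElt x) (hn2 : 2 ≤ Module.finrank (ZMod p) V) : TwoIrr H := by
  have hzc : ∀ g : H, z * g = g * z := fun g => Subtype.ext (LinearEquiv.ext fun v => by
    rw [Subgroup.coe_mul, Subgroup.coe_mul, LinearEquiv.mul_apply, LinearEquiv.mul_apply, hz, hz,
      map_neg])
  have hz1 : z ≠ 1 := fun e => by
    obtain ⟨v, hv⟩ := exists_ne (0 : V)
    have h := hz v
    rw [e, Subgroup.coe_one, one_app] at h
    have h2 : (2 : ZMod p) • v = 0 := by rw [two_smul]; nth_rw 2 [h]; exact add_neg_cancel v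
    refine hv ((smul_eq_zero.1 h2).resolve_left fun h0 => ?_)
    have := (ZMod.natCast_eq_zero_iff 2 p).1 (by exact_mod_cast h0)
    have h3 := (Nat.prime_dvd_prime_iff_eq hp.out Nat.prime_two).1 this
    subst h3
    exact absurd hodd (by decide)
  have hz2 : z ^ 2 = 1 := Subtype.ext (LinearEquiv.ext fun v => by
    rw [pow_two, Subgroup.coe_mul, LinearEquiv.mul_apply, hz, hz, neg_neg, Subgroup.coe_one,
      one_app])
  have hzx : IrrElt (z * x) := fun U hU => hxirr U fun v hv => by
    have h := U.neg_mem (hU v hv)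
    rwa [map_mul, Module.End.mul_apply, endH_apply, hz, neg_neg] at h
  refine ⟨x, z * x, irrElt_ne_one hn2 hxirr, irrElt_ne_one hn2 hzx,
    not_conj_of_orderOf fun e => hz1 ?_, hxirr, hzx⟩
  have h1 := pow_orderOf_eq_one (z * x)
  rw [← e, hx, (show Commute z x from hzc x).mul_pow] at h1
  obtain ⟨k, hk⟩ := hr
  have h2 : x ^ r = 1 := hx ▸ pow_orderOf_eq_one x
  rwa [h2, mul_one, hk, pow_succ, pow_mul, hz2, one_pow, one_mul] at h1

/-- the exceptional case of eighty-one points -/
theorem two_irr_eightyOne [Nontrivial V] (hcop : ¬ p ∣ Nat.card H) (hT : Trans H) (hp3 : p = 3)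
    (hn : Module.finrank (ZMod p) V = 4) : TwoIrr H := by
  subst hp3
  haveI := finite_H (H := H)
  have hsolv := solvable_of_trans hcop hn (by norm_num) hT
  have hV : Nat.card V = 3 ^ 4 := by
    rw [Module.natCard_eq_pow_finrank (K := ZMod 3) (V := V), hn, Nat.card_zmod]
  have hH : 80 ∣ Nat.card H := by
    have h := TransLinear.card_dvd_of_trans hT
    rwa [hV] at h
  haveI : Fact (Nat.Prime 5) := ⟨by norm_num⟩
  obtain ⟨x, hx⟩ := exists_prime_orderOf_dvd_card' 5 ((by norm_num : 5 ∣ 80).trans hH)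
  have hxirr : IrrElt x := primitive_irrElt (by norm_num) hV (fun i h1 h2 => by
    interval_cases i <;> norm_num) (by norm_num) hx
  -- an abelian normal subgroup
  obtain ⟨A, ⟨hAn, hAc⟩, hA1⟩ : ∃ A : Subgroup H, (A.Normal ∧ IsMulCommutative A) ∧ A ≠ ⊥ := by
    haveI : Nontrivial H := ⟨⟨x, 1, fun e => by rw [e, orderOf_one] at hx; norm_num at hx⟩⟩
    have hne : ∃ m, derivedSeries H m = ⊥ := (Group.isSolvable_def _).1 hsolv
    classical
    obtain ⟨m, hm⟩ : ∃ m, Nat.find hne = m + 1 := by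
      rcases h : Nat.find hne with _ | m
      · have h0 := Nat.find_spec hne
        rw [h, derivedSeries_zero] at h0
        exact absurd h0 top_ne_bot
      · exact ⟨m, rfl⟩
    refine ⟨derivedSeries H m, ⟨derivedSeries_normal H m, ?_⟩, Nat.find_min hne (by omega)⟩
    refine Subgroup.le_centralizer_iff_isMulCommutative.1 ?_
    rw [← Subgroup.commutator_eq_bot_iff_le_centralizer, ← derivedSeries_succ, ← hm]
    exact Nat.find_spec hne
  obtain ⟨k, hkn, hK, hAk, -⟩ := abelian_normal_facts hT hn A hAn hAc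
  have hA80 : Nat.card A ∣ 80 := hAk.trans (by
    have := Nat.le_of_dvd (by norm_num) hkn
    interval_cases k <;> first | omega | norm_num)
  obtain ⟨z, hz⟩ : ∃ z : H, ∀ v, (z : V ≃ₗ[ZMod 3] V) v = -v := by
    by_cases h2 : 2 ∣ Nat.card A
    · haveI := Fact.mk Nat.prime_two
      obtain ⟨z, hz⟩ := exists_prime_orderOf_dvd_card' 2 h2
      refine ⟨z, fun v => ?_⟩
      have hzz : (z : H) * z = 1 := by
        rw [← pow_two, ← Subgroup.coe_pow, ← hz, pow_orderOf_eq_one, Subgroup.coe_one]
      by_contra hne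
      have hne' : endH H (z : H) v + v ≠ 0 := fun e => hne (eq_neg_of_add_eq_zero_left e)
      refine hne' (TransLinear.alg_injective hT hAn hAc (r := endH H (z : H) - 1)
        (sub_mem (NearField.alg_mem _ z.2) (one_mem _)) (fun e => ?_) ?_)
      · have h1 : (z : H) = 1 := endH_injective ((sub_eq_zero.1 e).trans (map_one _).symm)
        rw [← Subgroup.orderOf_coe, h1, orderOf_one] at hz
        norm_num at hz
      · rw [LinearMap.sub_apply, Module.End.one_apply, map_add, ← Module.End.mul_apply, ← map_mul,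
          hzz, map_one, Module.End.one_apply]
        abel
    · have hA5 : 5 ∣ Nat.card A := by
        by_contra h5
        refine hA1 (Subgroup.card_eq_one.1 ?_)
        have h1 : Nat.Coprime (Nat.card A) (2 ^ 4 * 5) := Nat.Coprime.mul_right
          ((Nat.prime_two.coprime_iff_not_dvd.2 h2).symm.pow_right 4)
          ((Nat.Prime.coprime_iff_not_dvd (by norm_num)).2 h5).symm
        exact Nat.eq_one_of_dvd_coprimes h1 dvd_rfl hA80
      obtain ⟨y, hy⟩ := exists_prime_orderOf_dvd_card' 5 hA5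
      have hyirr : IrrElt (y : H) := primitive_irrElt (by norm_num) hV (fun i h1 h2 => by
        interval_cases i <;> norm_num) (by norm_num) ((Subgroup.orderOf_coe y).trans hy)
      have hi := TransLinear.galois_index hT hAn hAc hK
      have h2C : 2 ∣ Nat.card (Subgroup.centralizer (A : Set H)) := by
        by_contra hC
        have h1 : 16 ∣ Nat.card (Subgroup.centralizer (A : Set H)) *
            (Subgroup.centralizer (A : Set H)).index := by
          rw [Subgroup.card_mul_index]; exact (by norm_num : 16 ∣ 80).trans hH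
        have h3 := (Nat.Coprime.pow_left 4 (Nat.prime_two.coprime_iff_not_dvd.2 hC)).dvd_of_dvd_mul_left
          (show 2 ^ 4 ∣ _ from h1)
        have := Nat.le_of_dvd (by norm_num) ((h3.trans hi).trans hkn)
        norm_num at this
      haveI := Fact.mk Nat.prime_two
      obtain ⟨z, hz⟩ := exists_prime_orderOf_dvd_card' 2 h2C
      refine ⟨z, fun v => neg_of_comm_irrElt hyirr
        (Subgroup.mem_centralizer_iff.1 z.2 y y.2).symm ?_ ?_ v⟩
      · rw [← pow_two, ← Subgroup.coe_pow, ← hz, pow_orderOf_eq_one, Subgroup.coe_one]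
      · intro e
        rw [← Subgroup.orderOf_coe, e, orderOf_one] at hz
        norm_num at hz
  exact two_irr_of_neg (by decide) hz (by decide) hx hxirr (by omega)

/-- a central involution of a Sylow subgroup is the negation -/
theorem central_involution [Nontrivial V] (hodd : Odd p) (hT : Trans H)
    (hn : Module.finrank (ZMod p) V = 2) (S : Sylow 2 H) {z : H}
    (hzc : ∀ g ∈ (S : Subgroup H), z * g = g * z) (hz2 : z * z = 1) (hz : z ≠ 1) :
    ∀ v, (z : V ≃ₗ[ZMod p] V) v = -v := by
  classical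
  haveI := finite_H (H := H)
  haveI := Fact.mk Nat.prime_two
  intro u
  by_contra hu
  set W : Submodule (ZMod p) V := LinearMap.ker (endH H z - 1)
  have hW : ∀ w, w ∈ W ↔ (z : V ≃ₗ[ZMod p] V) w = w := fun w => by
    rw [LinearMap.mem_ker, LinearMap.sub_apply, Module.End.one_apply, sub_eq_zero, endH_apply]
  set v := (z : V ≃ₗ[ZMod p] V) u + u
  have hv : v ≠ 0 := fun e => hu (eq_neg_of_add_eq_zero_left e)
  have hvW : v ∈ W := by
    rw [hW, map_add, ← LinearEquiv.mul_apply, ← Subgroup.coe_mul, hz2, Subgroup.coe_one,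
      one_app, add_comm]
  have hW1 : Module.finrank (ZMod p) W = 1 := by
    have h0 : Module.finrank (ZMod p) W ≠ 0 := fun e => by
      rw [Submodule.finrank_eq_zero.1 e, Submodule.mem_bot] at hvW; exact hv hvW
    have h2 : W ≠ ⊤ := fun e => hz (Subtype.ext (LinearEquiv.ext fun w =>
      (hW w).1 (e ▸ Submodule.mem_top)))
    have := Submodule.finrank_lt h2
    omega
  have hline : ∀ g : S, ∃ a : ZMod p, ((g : H) : V ≃ₗ[ZMod p] V) v = a • v := fun g => by
    have hmem : ((g : H) : V ≃ₗ[ZMod p] V) v ∈ W := by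
      rw [hW, ← LinearEquiv.mul_apply, ← Subgroup.coe_mul, hzc g g.2, Subgroup.coe_mul,
        LinearEquiv.mul_apply, (hW v).1 hvW]
    have hv' : (⟨v, hvW⟩ : W) ≠ 0 := fun e => hv (congrArg Subtype.val e)
    obtain ⟨a, ha⟩ := (finrank_eq_one_iff_of_nonzero' _ hv').1 hW1 ⟨_, hmem⟩
    exact ⟨a, (congrArg Subtype.val ha).symm⟩
  choose a ha using hline
  have ha0 : ∀ g, a g ≠ 0 := fun g e => by
    have h1 := ha g
    rw [e, zero_smul] at h1
    exact hv (((g : H) : V ≃ₗ[ZMod p] V).map_eq_zero_iff.1 h1)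
  let f : S →* (ZMod p)ˣ := MonoidHom.mk' (fun g => Units.mk0 _ (ha0 g)) fun g h => by
    refine Units.ext (show a (g * h) = a g * a h from smul_left_injective (ZMod p) hv ?_)
    show a (g * h) • v = (a g * a h) • v
    rw [← ha, Subgroup.coe_mul, Subgroup.coe_mul, LinearEquiv.mul_apply, ha h, map_smul, ha g,
      smul_smul, mul_comm]
  obtain ⟨b, m, hm, hbm⟩ := Nat.exists_eq_two_pow_mul_odd (n := p - 1) (by
    have := hp.out.two_le; omega)
  have hkd : Nat.card f.ker ∣ Nat.card (MulAction.stabilizer H v) := by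
    refine Subgroup.card_dvd_of_injective ((((S : Subgroup H).subtype.comp f.ker.subtype)).codRestrict
      (MulAction.stabilizer H v) fun g => ?_) fun g h e => ?_
    · have h1 : a (g : S) = 1 := congrArg Units.val (MonoidHom.mem_ker.1 g.2)
      have h2 := ha (g : S)
      rw [h1, one_smul] at h2
      exact h2
    · exact Subtype.ext (Subtype.ext
        (congrArg (fun u : MulAction.stabilizer H v => (u : H)) e))
  have hcard := card_eq_mul_stabilizer hT hv
  rw [Module.natCard_eq_pow_finrank (K := ZMod p) (V := V), Nat.card_zmod, hn] at hcard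
  have hmain : 2 ^ (b + 1) * Nat.card f.ker ∣ Nat.card H := by
    rw [hcard]
    refine mul_dvd_mul ?_ hkd
    rw [sq_sub_one_eq, pow_succ, mul_comm (2 ^ b) 2, hbm]
    refine mul_dvd_mul ?_ (dvd_mul_right _ _)
    obtain ⟨k, hk⟩ := hodd
    exact ⟨k + 1, by omega⟩
  obtain ⟨j, hj⟩ := IsPGroup.iff_card.1 (S.2.to_subgroup f.ker)
  have hS : 2 ^ (b + 1) * Nat.card f.ker ∣ Nat.card S := by
    rw [hj, ← pow_add] at hmain ⊢
    rw [Sylow.card_eq_multiplicity]
    exact Nat.pow_dvd_pow 2 ((Nat.prime_two.pow_dvd_iff_le_factorization Nat.card_pos.ne').1 hmain)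
  rw [← f.ker.index_mul_card] at hS
  have h1 : 2 ^ (b + 1) ∣ p - 1 := by
    refine (Nat.dvd_of_mul_dvd_mul_right Nat.card_pos hS).trans ?_
    rw [Subgroup.index_ker]
    refine (Subgroup.card_subgroup_dvd_card _).trans (dvd_of_eq ?_)
    rw [Nat.card_eq_fintype_card, ZMod.card_units]
  rw [hbm, pow_succ] at h1
  exact (Nat.not_even_iff_odd.2 hm) (even_iff_two_dvd.2
    (Nat.dvd_of_mul_dvd_mul_left (by positivity) h1))

/-- two power elements of order at least four are irreducible when `p + 1` is a two power -/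
theorem irrElt_of_two_power (hcop : ¬ p ∣ Nat.card H) (hn : Module.finrank (ZMod p) V = 2)
    (hodd : Odd p) (hp4 : 4 ∣ p + 1) {y : H} {j : ℕ} (hy : orderOf y = 2 ^ j) (hj : 2 ≤ j) :
    IrrElt y := by
  haveI := finite_H (H := H)
  refine irrElt_of_no_eigen hn fun v hv c hc => ?_
  -- units with a two power order are signs
  have hsq : ∀ t : ZMod p, t ^ 2 ^ j = 1 → t * t = 1 := by
    intro t ht
    have ht0 : t ≠ 0 := by
      rintro rfl
      rw [zero_pow (by positivity)] at ht
      exact zero_ne_one ht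
    have h1 : t ^ Nat.gcd (2 ^ j) (p - 1) = 1 :=
      pow_gcd_eq_one.2 ⟨ht, ZMod.pow_card_sub_one_eq_one ht0⟩
    have h2 : Nat.gcd (2 ^ j) (p - 1) ∣ 2 := by
      obtain ⟨i, -, hi⟩ := (Nat.dvd_prime_pow Nat.prime_two).1 (Nat.gcd_dvd_left (2 ^ j) (p - 1))
      rw [hi]
      have h3 : ¬ 4 ∣ p - 1 := by
        obtain ⟨k, hk⟩ := hodd
        omega
      rcases i with _ | _ | i
      · norm_num
      · norm_num
      · exact absurd (((Dvd.intro_left (2 ^ i) (by rw [pow_succ, pow_succ]; ring) :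
          4 ∣ 2 ^ (i + 2))).trans (hi ▸ Nat.gcd_dvd_right (2 ^ j) (p - 1))) h3
    obtain ⟨q, hq⟩ := h2
    have h4 : t ^ 2 = 1 := by rw [hq, pow_mul, h1, one_pow]
    rwa [pow_two] at h4
  obtain ⟨w, hw⟩ : ∃ w, w ∉ Submodule.span (ZMod p) {v} := by
    by_contra! h
    have h1 := finrank_span_singleton (K := ZMod p) hv
    rw [show Submodule.span (ZMod p) {v} = ⊤ from top_le_iff.1 fun x _ => h x, finrank_top, hn] at h1
    norm_num at h1
  have htop := span_pair_eq_top hn hv hw
  have hyw : endH H y w ∈ Submodule.span (ZMod p) {v, w} := htop ▸ Submodule.mem_top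
  obtain ⟨a, b, hab⟩ := Submodule.mem_span_pair.1 hyw
  have hpv : ∀ i : ℕ, endH H (y ^ i) v = c ^ i • v := by
    intro i
    induction i with
    | zero => simp
    | succ i ih =>
      rw [pow_succ, map_mul, Module.End.mul_apply, endH_apply y, hc, map_smul, ih, smul_smul,
        mul_comm, ← pow_succ]
  have hpw : ∀ i : ℕ, ∃ s : ZMod p, endH H (y ^ i) w = s • v + b ^ i • w := by
    intro i
    induction i with
    | zero => exact ⟨0, by simp⟩
    | succ i ih =>
      obtain ⟨s, hs⟩ := ih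
      refine ⟨a * c ^ i + b * s, ?_⟩
      rw [pow_succ, map_mul, Module.End.mul_apply, ← hab, map_add, map_smul, map_smul, hpv, hs,
        smul_add, smul_smul, smul_smul, smul_smul, add_smul, add_assoc, ← pow_succ' b]
  have hord : y ^ 2 ^ j = 1 := hy ▸ pow_orderOf_eq_one y
  have hc2 : c * c = 1 := by
    refine hsq c (smul_left_injective (ZMod p) hv ?_)
    show c ^ 2 ^ j • v = (1 : ZMod p) • v
    rw [← hpv, hord, map_one, Module.End.one_apply, one_smul]
  have hb2 : b * b = 1 := by
    refine hsq b ?_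
    obtain ⟨s, hs⟩ := hpw (2 ^ j)
    rw [hord, map_one, Module.End.one_apply] at hs
    by_contra hne
    apply hw
    have h1 : (1 - b ^ 2 ^ j) • w = s • v := by
      rw [sub_smul, one_smul]
      exact sub_eq_iff_eq_add.2 hs
    have h2 : w = ((1 - b ^ 2 ^ j)⁻¹ * s) • v := by
      rw [mul_smul, ← h1, inv_smul_smul₀ (sub_ne_zero.2 (Ne.symm hne))]
    exact Submodule.mem_span_singleton.2 ⟨_, h2.symm⟩
  obtain ⟨s, hs⟩ := hpw 2
  rw [pow_two b, hb2, one_smul] at hs
  have hfixv : endH H (y ^ 2) v = v := by rw [hpv, pow_two, hc2, one_smul]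
  have hpw2 : ∀ i : ℕ, endH H ((y ^ 2) ^ i) w = ((i : ZMod p) * s) • v + w := by
    intro i
    induction i with
    | zero => simp
    | succ i ih =>
      have hv2 : endH H ((y ^ 2) ^ i) v = v := by
        clear ih
        induction i with
        | zero => simp
        | succ i ih => rw [pow_succ, map_mul, Module.End.mul_apply, hfixv, ih]
      rw [pow_succ, map_mul, Module.End.mul_apply, hs, map_add, map_smul, hv2, ih, Nat.cast_succ,
        add_mul, one_mul, add_smul]
      abel
  have h1 : y ^ (2 * p) = 1 := by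
    apply endH_injective
    refine LinearMap.ext_on htop ?_
    intro u hu
    rw [map_one, Module.End.one_apply]
    rcases hu with rfl | hu
    · rw [hpv, pow_mul, pow_two, hc2, one_pow, one_smul]
    · rw [Set.mem_singleton_iff] at hu
      subst hu
      rw [pow_mul, hpw2, ZMod.natCast_self, zero_mul, zero_smul, zero_add]
  have h2 : orderOf y ∣ 2 := by
    refine (Nat.Coprime.dvd_of_dvd_mul_right ?_ (orderOf_dvd_of_pow_eq_one h1))
    exact Nat.Coprime.symm ((Nat.Prime.coprime_iff_not_dvd hp.out).2 fun h => hcop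
      (h.trans (orderOf_dvd_natCard y)))
  rw [hy] at h2
  have := Nat.le_of_dvd (by norm_num) h2
  have h4 : 2 ^ 2 ≤ 2 ^ j := Nat.pow_le_pow_right (by norm_num) hj
  omega

/-- the Mersenne planes -/
theorem two_irr_mersenne [Nontrivial V] (hcop : ¬ p ∣ Nat.card H) (hT : Trans H)
    (hn : Module.finrank (ZMod p) V = 2) (hodd : Odd p) {z : H}
    (hz : ∀ v, (z : V ≃ₗ[ZMod p] V) v = -v) {a : ℕ} (ha : p + 1 = 2 ^ a) (ha2 : 2 ≤ a) :
    TwoIrr H := by
  classical
  haveI := finite_H (H := H)
  haveI := Fact.mk Nat.prime_two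
  have hp4 : 4 ∣ p + 1 := ha ▸ (Nat.pow_dvd_pow 2 ha2 : 2 ^ 2 ∣ 2 ^ a)
  by_cases h8 : ∃ (x : H) (j : ℕ), orderOf x = 2 ^ j ∧ 3 ≤ j
  · obtain ⟨x, j, hx, hj⟩ := h8
    have hx2 : orderOf (x ^ 2) = 2 ^ (j - 1) := by
      obtain ⟨i, rfl⟩ : ∃ i, j = i + 1 := ⟨j - 1, by omega⟩
      rw [orderOf_pow_of_dvd two_ne_zero (hx ▸ dvd_pow_self 2 (by omega)), hx, pow_succ,
        Nat.mul_div_cancel _ two_pos]
      rfl
    have i1 := irrElt_of_two_power hcop hn hodd hp4 hx (by omega)
    have i2 := irrElt_of_two_power hcop hn hodd hp4 hx2 (by omega)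
    refine ⟨x, x ^ 2, irrElt_ne_one hn.ge i1, irrElt_ne_one hn.ge i2,
      not_conj_of_orderOf fun e => ?_, i1, i2⟩
    rw [hx, hx2] at e
    have := Nat.pow_right_injective (le_refl 2) e
    omega
  push Not at h8
  obtain ⟨v₀, hv₀⟩ := exists_ne (0 : V)
  obtain ⟨S⟩ : Nonempty (Sylow 2 H) := inferInstance
  have hzc : ∀ g : H, z * g = g * z := fun g => Subtype.ext (LinearEquiv.ext fun v => by
    rw [Subgroup.coe_mul, Subgroup.coe_mul, LinearEquiv.mul_apply, LinearEquiv.mul_apply, hz, hz,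
      map_neg])
  have hord : ∀ g : H, g ∈ (S : Subgroup H) → orderOf g ∣ 4 := by
    intro g hg
    obtain ⟨i, hi⟩ := S.2 ⟨g, hg⟩
    obtain ⟨j, -, hj⟩ := (Nat.dvd_prime_pow Nat.prime_two).1 (orderOf_dvd_of_pow_eq_one
      (show g ^ 2 ^ i = 1 from congrArg Subtype.val hi))
    rw [hj]
    exact (Nat.pow_dvd_pow 2 (Nat.lt_succ_iff.1 (h8 g j hj)) : 2 ^ j ∣ 2 ^ 2)
  have hirr4 : ∀ g : H, orderOf g = 4 → IrrElt g := fun g hg =>
    irrElt_of_two_power hcop hn hodd hp4 (j := 2) (by rw [hg]; norm_num) le_rfl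
  have hsquare : ∀ g ∈ (S : Subgroup H), g * g = 1 ∨ g * g = z := by
    intro g hg
    by_cases h1 : g * g = 1
    · exact Or.inl h1
    right
    have h4 : orderOf g = 4 := by
      obtain ⟨i, hi, hi'⟩ := (Nat.dvd_prime_pow Nat.prime_two).1 (show orderOf g ∣ 2 ^ 2 from hord g hg)
      interval_cases i
      · exact absurd (orderOf_dvd_iff_pow_eq_one.1 (hi' ▸ one_dvd _ : orderOf g ∣ 2)) (by rwa [pow_two])
      · exact absurd (orderOf_dvd_iff_pow_eq_one.1 (hi' ▸ dvd_rfl : orderOf g ∣ 2)) (by rwa [pow_two])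
      · exact hi'.trans (by norm_num)
    refine Subtype.ext (LinearEquiv.ext fun v => ?_)
    rw [hz]
    refine neg_of_comm_irrElt (hirr4 g h4) (by group) ?_ h1 v
    rw [show g * g * (g * g) = g ^ 4 by simp only [pow_succ, pow_zero, one_mul, mul_assoc], ← h4,
      pow_orderOf_eq_one]
  have hcardS : 2 ^ (a + 1) ∣ Nat.card S := by
    rw [Sylow.card_eq_multiplicity]
    refine Nat.pow_dvd_pow 2 ((Nat.prime_two.pow_dvd_iff_le_factorization Nat.card_pos.ne').1 ?_)
    have h1 := TransLinear.card_dvd_of_trans hT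
    rw [Module.natCard_eq_pow_finrank (K := ZMod p) (V := V), Nat.card_zmod, hn,
      sq_sub_one_eq, ha] at h1
    refine dvd_trans ?_ h1
    rw [pow_succ]
    obtain ⟨k, hk⟩ := hodd
    exact mul_dvd_mul_left _ ⟨k, by omega⟩
  have hS8 : 8 ≤ Nat.card S := le_trans (Nat.pow_le_pow_right two_pos (by omega) : 2 ^ 3 ≤ 2 ^ (a + 1))
    (Nat.le_of_dvd Nat.card_pos hcardS)
  -- commutators are signs
  have hconj : ∀ x ∈ (S : Subgroup H), ∀ y ∈ (S : Subgroup H), y * x = x * y ∨ y * x = z * (x * y) := by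
    intro x hx y hy
    have key : ∀ s t u : H, (s = 1 ∨ s = z) → (t = 1 ∨ t = z) → (u = 1 ∨ u = z) →
        s * t * u = 1 ∨ s * t * u = z := by
      have hzz : z * z = 1 := Subtype.ext (LinearEquiv.ext fun v => by
        rw [Subgroup.coe_mul, LinearEquiv.mul_apply, hz, hz, neg_neg, Subgroup.coe_one,
          one_app])
      rintro s t u (rfl | rfl) (rfl | rfl) (rfl | rfl) <;> simp [hzz]
    have hc : y * x * (x * y)⁻¹ = (y * x * (y * x)) * ((x * x)⁻¹) * ((y * y)⁻¹) := by
      have hxx : ∀ g, (x * x)⁻¹ * g = g * (x * x)⁻¹ := fun g => by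
        rcases hsquare x hx with h | h <;> rw [h]
        · simp
        · exact (show Commute z g from hzc g).inv_left.eq
      have hyy : ∀ g, (y * y)⁻¹ * g = g * (y * y)⁻¹ := fun g => by
        rcases hsquare y hy with h | h <;> rw [h]
        · simp
        · exact (show Commute z g from hzc g).inv_left.eq
      rw [mul_assoc (y * x * (y * x)), hyy ((x * x)⁻¹) |>.symm]
      calc y * x * (x * y)⁻¹ = y * x * y⁻¹ * x⁻¹ := by group
        _ = y * x * y * ((y * y)⁻¹) * x⁻¹ := by group
        _ = y * x * y * (x⁻¹ * (y * y)⁻¹) := by rw [mul_assoc (y * x * y), hyy]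
        _ = y * x * y * (x * (x * x)⁻¹ * (y * y)⁻¹) := by group
        _ = y * x * (y * x) * ((y * y)⁻¹ * (x * x)⁻¹) := by rw [hyy ((x * x)⁻¹)]; group
    have hinv : ∀ s : H, (s = 1 ∨ s = z) → (s⁻¹ = 1 ∨ s⁻¹ = z) := by
      rintro s (rfl | rfl)
      · simp
      · right
        refine inv_eq_of_mul_eq_one_right (Subtype.ext (LinearEquiv.ext fun v => ?_))
        rw [Subgroup.coe_mul, LinearEquiv.mul_apply, hz, hz, neg_neg, Subgroup.coe_one,
          one_app]
    rcases key _ _ _ (hsquare _ (mul_mem hy hx)) (hinv _ (hsquare x hx)) (hinv _ (hsquare y hy))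
      with h | h <;> rw [← hc, mul_inv_eq_iff_eq_mul] at h
    · left; rw [h, one_mul]
    · exact Or.inr h
  obtain ⟨x, hxS, hx4⟩ : ∃ x ∈ (S : Subgroup H), orderOf x = 4 := by
    by_contra! hno
    have h2 : ∀ g ∈ (S : Subgroup H), g * g = 1 := by
      intro g hg
      obtain ⟨i, hi, hi'⟩ := (Nat.dvd_prime_pow Nat.prime_two).1 (show orderOf g ∣ 2 ^ 2 from hord g hg)
      interval_cases i
      · rw [← pow_two]; exact orderOf_dvd_iff_pow_eq_one.1 (hi' ▸ one_dvd _)
      · rw [← pow_two]; exact orderOf_dvd_iff_pow_eq_one.1 (hi' ▸ dvd_rfl)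
      · exact absurd (hi'.trans (by norm_num)) (hno g hg)
    have hle : ∀ g : S, (g : H) = 1 ∨ (g : H) = z := by
      intro g
      by_cases h1 : (g : H) = 1
      · exact Or.inl h1
      right
      refine Subtype.ext (LinearEquiv.ext fun v => ?_)
      rw [hz]
      refine central_involution hodd hT hn S (fun k hk => ?_) (h2 _ g.2) h1 v
      have e := h2 _ (mul_mem g.2 hk)
      calc (g : H) * k = (g : H) * k * ((k * (g : H)) * (k * (g : H))) := by
            rw [h2 _ (mul_mem hk g.2), mul_one]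
        _ = (g : H) * (k * k) * (g : H) * k * (g : H) := by group
        _ = k * (g : H) := by rw [h2 k hk, mul_one, h2 _ g.2, one_mul]
    have h3 : Nat.card S ≤ 2 := by
      refine le_trans ?_ (Nat.card_eq_fintype_card.trans Fintype.card_bool).le
      refine Nat.card_le_card_of_injective (fun g : S => decide ((g : H) = 1)) fun g k e => ?_
      simp only [decide_eq_decide] at e
      rcases hle g with hg | hg
      · exact Subtype.ext (hg.trans (e.1 hg).symm)
      · rcases hle k with hk | hk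
        · exact Subtype.ext ((e.2 hk).trans hk.symm)
        · exact Subtype.ext (hg.trans hk.symm)
    omega
  have hxirr := hirr4 x hx4
  have hcyc := isCyclic_centralizer hxirr
  have hCS : ∀ g : H, g ∈ (S : Subgroup H) → g * x = x * g → g ∈ Subgroup.zpowers x := by
    intro g hg hgx
    set C := Subgroup.centralizer ({x} : Set H) ⊓ (S : Subgroup H)
    haveI := hcyc
    haveI : IsCyclic C := isCyclic_of_injective (Subgroup.inclusion (inf_le_left :
      C ≤ Subgroup.centralizer ({x} : Set H))) (Subgroup.inclusion_injective _)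
    obtain ⟨c, hc⟩ := IsCyclic.exists_generator (α := C)
    have hC4 : Nat.card C ≤ 4 := by
      rw [← orderOf_eq_card_of_forall_mem_zpowers hc, ← Subgroup.orderOf_coe]
      exact Nat.le_of_dvd (by norm_num) (hord _ c.2.2)
    have hxC : Subgroup.zpowers x ≤ C :=
      Subgroup.zpowers_le.2 ⟨Subgroup.mem_centralizer_singleton_iff.2 rfl, hxS⟩
    have hEq : Subgroup.zpowers x = C := Subgroup.eq_of_le_of_card_ge hxC (by
      rw [Nat.card_zpowers, hx4]; exact hC4)
    rw [hEq]
    exact ⟨Subgroup.mem_centralizer_singleton_iff.2 hgx, hg⟩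
  have hS : Nat.card S = 8 := by
    refine le_antisymm ?_ hS8
    by_cases hy : ∃ y ∈ (S : Subgroup H), y * x ≠ x * y
    · obtain ⟨y, hy, hyx⟩ := hy
      have hzz : z * z = 1 := Subtype.ext (LinearEquiv.ext fun v => by
        rw [Subgroup.coe_mul, LinearEquiv.mul_apply, hz, hz, neg_neg, Subgroup.coe_one, one_app])
      have hyx' := (hconj x hxS y hy).resolve_left hyx
      let f : S → Bool × Subgroup.zpowers x := fun g =>
        if h : (g : H) * x = x * (g : H) then (false, ⟨g, hCS g g.2 h⟩)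
        else (true, ⟨y * (g : H), hCS _ (mul_mem hy g.2) (by
          rw [mul_assoc, (hconj x hxS g g.2).resolve_left h, ← mul_assoc, ← hzc y, mul_assoc z,
            ← mul_assoc y x, hyx', mul_assoc z, ← mul_assoc, hzz, one_mul,
            mul_assoc])⟩)
      calc Nat.card S ≤ Nat.card (Bool × Subgroup.zpowers x) :=
            Nat.card_le_card_of_injective f fun g k e => by
              simp only [f] at e
              split_ifs at e with h1 h2 h2
              · exact Subtype.ext (congrArg (fun q : Bool × Subgroup.zpowers x => (q.2 : H)) e)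
              · simp at e
              · simp at e
              · exact Subtype.ext (mul_left_cancel
                  (congrArg (fun q : Bool × Subgroup.zpowers x => (q.2 : H)) e))
        _ = 8 := by rw [Nat.card_prod, Nat.card_zpowers, hx4, Nat.card_eq_fintype_card]; rfl
    · push Not at hy
      calc Nat.card S ≤ Nat.card (Subgroup.zpowers x) :=
            Nat.card_le_card_of_injective (fun g => ⟨g, hCS g g.2 (hy g g.2)⟩) fun g k e =>
              Subtype.ext (congrArg (fun q : Subgroup.zpowers x => (q : H)) e)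
        _ ≤ 8 := by rw [Nat.card_zpowers, hx4]; norm_num
  obtain rfl : a = 2 := by
    have h1 := Nat.le_of_dvd (by norm_num) (hS ▸ hcardS)
    by_contra hne
    have h2 : 2 ^ 4 ≤ 2 ^ (a + 1) := Nat.pow_le_pow_right two_pos (by omega)
    omega
  obtain rfl : p = 3 := by omega
  have hcard := card_eq_mul_stabilizer hT hv₀
  rw [Module.natCard_eq_pow_finrank (K := ZMod 3) (V := V), Nat.card_zmod, hn,
    show (3 : ℕ) ^ 2 - 1 = 8 from rfl] at hcard
  have hst := card_stabilizer_le hcop hn hv₀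
  have hst1 : Nat.card (MulAction.stabilizer H v₀) = 1 := by
    have h0 := Nat.card_pos (α := MulAction.stabilizer H v₀)
    rcases (show Nat.card (MulAction.stabilizer H v₀) = 1 ∨ Nat.card (MulAction.stabilizer H v₀) = 2 by
      omega) with h | h
    · exact h
    · exfalso
      rw [h] at hcard
      have := Sylow.card_eq_multiplicity S
      rw [hS, hcard, show (8 * 2 : ℕ) = 2 ^ 4 from rfl, Nat.factorization_pow_self Nat.prime_two] at this
      norm_num at this
  have htop : (S : Subgroup H) = ⊤ := Subgroup.eq_top_of_card_eq _ (by rw [hS, hcard, hst1])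
  obtain ⟨y, hy⟩ : ∃ y : H, y ∉ Subgroup.zpowers x := by
    by_contra! h
    have h1 : Nat.card (Subgroup.zpowers x) = Nat.card H := by
      rw [show Subgroup.zpowers x = ⊤ from top_le_iff.1 fun g _ => h g, Subgroup.card_top]
    rw [Nat.card_zpowers, hx4, hcard, hst1] at h1
    norm_num at h1
  have hfree : ∀ (g : H) (v : V), v ≠ 0 → (g : V ≃ₗ[ZMod 3] V) v = v → g = 1 := by
    intro g v hv hg
    have h1 := card_eq_mul_stabilizer hT hv
    rw [Module.natCard_eq_pow_finrank (K := ZMod 3) (V := V), Nat.card_zmod, hn, hcard, hst1,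
      show (3 : ℕ) ^ 2 - 1 = 8 from rfl] at h1
    replace h1 := Nat.eq_of_mul_eq_mul_left (by norm_num) h1
    exact Subgroup.mem_bot.1 (Subgroup.eq_bot_of_card_eq _ h1.symm ▸ (hg :
      g ∈ MulAction.stabilizer H v))
  have hy4 : orderOf y = 4 := by
    have hyS : y ∈ (S : Subgroup H) := htop ▸ Subgroup.mem_top y
    obtain ⟨i, hi, hi'⟩ := (Nat.dvd_prime_pow Nat.prime_two).1 (show orderOf y ∣ 2 ^ 2 from hord y hyS)
    have hnot : ¬ y * y = 1 := fun h2 => by
      apply hy
      by_cases hw : ∃ v, (y : V ≃ₗ[ZMod 3] V) v + v ≠ 0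
      · obtain ⟨v, hv⟩ := hw
        rw [hfree y _ hv (by rw [map_add, ← LinearEquiv.mul_apply, ← Subgroup.coe_mul, h2,
          Subgroup.coe_one, one_app, add_comm])]
        exact one_mem _
      · push Not at hw
        have : y = z := Subtype.ext (LinearEquiv.ext fun v => by
          rw [hz]; exact eq_neg_of_add_eq_zero_left (hw v))
        rw [this]
        exact hCS z (htop ▸ Subgroup.mem_top z) (hzc x)
    interval_cases i
    · exact absurd (orderOf_dvd_iff_pow_eq_one.1 (hi' ▸ one_dvd _ : orderOf y ∣ 2)) (by rwa [pow_two])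
    · exact absurd (orderOf_dvd_iff_pow_eq_one.1 (hi' ▸ dvd_rfl : orderOf y ∣ 2)) (by rwa [pow_two])
    · exact hi'.trans (by norm_num)
  have hyirr := hirr4 y hy4
  refine ⟨x, y, irrElt_ne_one hn.ge hxirr, irrElt_ne_one hn.ge hyirr, fun hc => hy ?_, hxirr, hyirr⟩
  obtain ⟨g, hg⟩ := isConj_iff.1 hc
  rw [← hg]
  refine hCS _ (htop ▸ Subgroup.mem_top _) ?_
  rcases hconj x hxS g (htop ▸ Subgroup.mem_top g) with h | h <;> rw [h]
  · simp
  · rw [mul_assoc z, mul_inv_cancel_right, hzc x, mul_assoc, hzc x]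

/-- coprime transitive linear groups -/
theorem exists_two_irr [Nontrivial V] (hcop : ¬ p ∣ Nat.card H) (hT : Trans H)
    (hV : 3 < Nat.card V) : TwoIrr H := by
  classical
  haveI := finite_H (H := H)
  set n := Module.finrank (ZMod p) V with hn
  have hn0 : 0 < n := Module.finrank_pos
  have hVn : Nat.card V = p ^ n := by rw [Module.natCard_eq_pow_finrank (K := ZMod p), Nat.card_zmod]
  have hdvd : p ^ n - 1 ∣ Nat.card H := hVn ▸ TransLinear.card_dvd_of_trans hT
  by_cases hn1 : n = 1
  · rw [hn1, pow_one] at hVn hdvd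
    have hall : ∀ g : H, IrrElt g := fun g U _ => by
      rcases Nat.eq_zero_or_pos (Module.finrank (ZMod p) U) with h | h
      · exact Or.inl (Submodule.finrank_eq_zero.1 h)
      · exact Or.inr (Submodule.eq_top_of_finrank_eq (le_antisymm (Submodule.finrank_le U) (by omega)))
    have h3 : 3 ≤ Nat.card H := le_trans (by omega) (Nat.le_of_dvd Nat.card_pos hdvd)
    haveI := Fintype.ofFinite H
    rw [Nat.card_eq_fintype_card] at h3
    obtain ⟨g, hg, k, hk, hgk⟩ := Finset.one_lt_card.1
      (show 1 < (Finset.univ.erase (1 : H)).card by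
        rw [Finset.card_erase_of_mem (Finset.mem_univ _), Finset.card_univ]; omega)
    have hne : g ≠ 1 ∧ k ≠ 1 := ⟨(Finset.mem_erase.1 ‹g ∈ _›).1, (Finset.mem_erase.1 ‹k ∈ _›).1⟩
    refine ⟨g, k, hne.1, hne.2, fun hc => hgk ?_, hall g, hall k⟩
    obtain ⟨u, hu⟩ := isConj_iff.1 hc
    rw [← hu, comm_of_irrElt (hall 1) (a := u) (b := g)
      (Subgroup.mem_centralizer_singleton_iff.2 (by simp))
      (Subgroup.mem_centralizer_singleton_iff.2 (by simp)), mul_inv_cancel_right]
  rcases hp.out.eq_two_or_odd' with hp2 | hodd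
  · exact two_irr_two hp2 hcop hT (by omega)
  rcases Nat.lt_or_ge n 3 with hlt | h3
  swap
  · rcases TransLinear.semilinear_or_small hT (solvable_of_trans hcop hn.symm h3 hT) with h | h
    · exact two_irr_semilinear hodd hT hn.symm h3 h
    · obtain ⟨hp3, hn4⟩ : p = 3 ∧ n = 4 := by
        rw [hVn] at h
        have h1 : p ^ 3 ≤ p ^ n := Nat.pow_le_pow_right hp.out.pos h3
        have hsq : ∀ q : ℕ, q.Prime → ∀ b, p ^ n = q ^ b → p = q ∧ n = b := fun q hq b e => by
          have hd : p ∣ q ^ b := e ▸ dvd_pow_self p (by omega)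
          obtain rfl := (Nat.prime_dvd_prime_iff_eq hp.out hq).1 (hp.out.dvd_of_dvd_pow hd)
          exact ⟨rfl, Nat.pow_right_injective hp.out.two_le e⟩
        simp only [Set.mem_insert_iff, Set.mem_singleton_iff] at h
        rcases h with h | h | h | h | h | h
        · have := hsq 3 (by norm_num) 2 (by simpa using h); omega
        · have := hsq 5 (by norm_num) 2 (by simpa using h); omega
        · have := hsq 7 (by norm_num) 2 (by simpa using h); omega
        · have := hsq 11 (by norm_num) 2 (by simpa using h); omega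
        · have := hsq 23 (by norm_num) 2 (by simpa using h); omega
        · exact hsq 3 (by norm_num) 4 (by simpa using h)
      exact two_irr_eightyOne hcop hT hp3 (hn.symm.trans hn4)
  have hn2 : n = 2 := by omega
  rw [hn2] at hn hVn hdvd
  haveI := Fact.mk Nat.prime_two
  obtain ⟨z, hz⟩ : ∃ z : H, ∀ v, (z : V ≃ₗ[ZMod p] V) v = -v := by
    obtain ⟨S⟩ : Nonempty (Sylow 2 H) := inferInstance
    haveI : Nontrivial S := by
      rw [← Finite.one_lt_card_iff_nontrivial]
      refine one_lt_two.trans_le (Nat.le_of_dvd Nat.card_pos (S.dvd_card_of_dvd_card (dvd_trans ?_ hdvd)))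
      obtain ⟨k, hk⟩ := hodd
      rw [hk]
      exact ⟨2 * k * k + 2 * k, by ring_nf; omega⟩
    haveI := S.2.center_nontrivial
    obtain ⟨j, hj⟩ := IsPGroup.iff_card.1 (S.2.to_subgroup (Subgroup.center S))
    have h2 : 2 ∣ Nat.card (Subgroup.center S) := by
      rw [hj]
      refine dvd_pow_self 2 fun h => ?_
      rw [h, pow_zero] at hj
      exact absurd hj (Finite.one_lt_card (α := Subgroup.center S)).ne'
    obtain ⟨z, hz⟩ := exists_prime_orderOf_dvd_card' 2 h2
    refine ⟨((z : S) : H), central_involution hodd hT hn.symm S (fun g hg => ?_) ?_ ?_⟩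
    · exact (congrArg Subtype.val (Subgroup.mem_center_iff.1 z.2 ⟨g, hg⟩)).symm
    · have h2 := pow_orderOf_eq_one z
      rw [hz, pow_two] at h2
      exact congrArg (fun q : Subgroup.center S => ((q : S) : H)) h2
    · intro e
      rw [← Subgroup.orderOf_coe, ← Subgroup.orderOf_coe, e, orderOf_one] at hz
      norm_num at hz
  by_cases hr : ∃ r : ℕ, r.Prime ∧ r ∣ p + 1 ∧ r ≠ 2
  · obtain ⟨r, hr, hrd, hr2⟩ := hr
    haveI := Fact.mk hr
    have hrH : r ∣ Nat.card H := hrd.trans ((show p + 1 ∣ p ^ 2 - 1 from sq_sub_one_eq p ▸ dvd_mul_right _ _).trans hdvd)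
    obtain ⟨x, hx⟩ := exists_prime_orderOf_dvd_card' r hrH
    have hrp : ¬ r ∣ p - 1 := fun h => hr2 ((Nat.prime_dvd_prime_iff_eq hr Nat.prime_two).1 (by
      have := Nat.dvd_sub hrd h
      rwa [show p + 1 - (p - 1) = 2 by have := hp.out.two_le; omega] at this))
    refine two_irr_of_neg hodd hz (hr.odd_of_ne_two hr2) hx (primitive_irrElt hr hVn
      (fun i h1 h2 => by interval_cases i; rwa [pow_one]) (fun e => ?_) hx) (by omega)
    have h1 := Nat.dvd_sub hrd (e ▸ dvd_rfl : r ∣ p)
    rw [show p + 1 - p = 1 by omega] at h1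
    exact hr.not_dvd_one h1
  · push Not at hr
    have ha : ∃ a, p + 1 = 2 ^ a := ⟨_, Nat.eq_prime_pow_of_unique_prime_dvd (by omega)
      fun {d} hd hdd => hr d hd hdd⟩
    obtain ⟨a, ha⟩ := ha
    refine two_irr_mersenne hcop hT hn.symm hodd hz ha ?_
    by_contra hlt
    have := Nat.pow_le_pow_right two_pos (show a ≤ 1 by omega)
    have := hp.out.two_le
    omega

end Cfsg.Agent.Perm.TransCoprime
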