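import Mathlib
import Cfsg.Agent.Lib.Perm.TransCoprime.Solvable
import Cfsg.Agent.Lib.Perm.TransCoprime.Count
import Cfsg.Agent.Lib.Perm.TransCoprime.Plane

/-!
# Coprime transitive groups of the eighty-one points
-/

set_option autoImplicit false
set_option linter.style.haveILetI false
set_option linter.unusedSectionVars false

namespace Cfsg.Agent.Perm.TransCoprime

open scoped commutatorElement
open TransLinear (Trans Sympl)
open NearField (endH alg alg_comm endH_injective finite_end finite_H toAlg toAlg_injective)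

/-- the automorphisms of a central layer that are trivial on both factors are few -/
theorem card_le_of_layer {G : Type*} [Group G] [Finite G] {A N : Subgroup G} {r : ℕ}
    (hs : Sympl A N r) (hA : ∀ g : G, ∀ a ∈ A, a * g = g * a) (K : Subgroup G)
    (hK : ∀ t ∈ K, ∀ w ∈ N, ⁅t, w⁆ ∈ A) (hC : ∀ t ∈ K, (∀ y ∈ N, t * y = y * t) → t ∈ A)
    {L : Type*} [CommRing L] [IsDomain L] (ψ : A →* L) (hψ : Function.Injective ψ) :
    Nat.card K ≤ A.relIndex N * Nat.card A := by
  classical
  haveI : A.Normal := ⟨fun a ha g => by rwa [← hA g a ha, mul_inv_cancel_right]⟩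
  set ι := N ⧸ A.subgroupOf N
  haveI := Fintype.ofFinite ι
  let ad : K → (N →* A) := fun t => MonoidHom.mk' (fun w => ⟨⁅(t : G), (w : G)⁆, hK t t.2 w w.2⟩)
    fun a b => Subtype.ext (by
      show ⁅(t : G), (a : G) * b⁆ = ⁅(t : G), (a : G)⁆ * ⁅(t : G), (b : G)⁆
      have e : ⁅(t : G), (a : G) * b⁆ = ⁅(t : G), (a : G)⁆ * ((a : G) * ⁅(t : G), (b : G)⁆ * (a : G)⁻¹) := by
        simp only [commutatorElement_def]; group
      rw [e, ← hA (a : G) _ (hK t t.2 b b.2), mul_inv_cancel_right])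
  have had : ∀ t : K, A.subgroupOf N ≤ (ad t).ker := fun t w hw =>
    Subtype.ext (commutatorElement_eq_one_iff_mul_comm.2 (hA (t : G) (w : G) hw).symm)
  let θ : K →* (ι → A) := MonoidHom.mk' (fun t q => ad t q.out) fun a b => funext fun q => Subtype.ext (by
    show ⁅((a * b : K) : G), (q.out : G)⁆ = ⁅(a : G), (q.out : G)⁆ * ⁅(b : G), (q.out : G)⁆
    have e : ⁅(a : G) * b, (q.out : G)⁆ =
        (a : G) * ⁅(b : G), (q.out : G)⁆ * (a : G)⁻¹ * ⁅(a : G), (q.out : G)⁆ := by
      simp only [commutatorElement_def]; group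
    rw [Subgroup.coe_mul, e, ← hA (a : G) _ (hK b b.2 _ q.out.2), mul_inv_cancel_right,
      hA _ _ (hK b b.2 _ q.out.2)])
  have hker : Nat.card θ.ker ≤ Nat.card A := by
    rw [← Subgroup.card_subtype K θ.ker]
    refine Subgroup.card_le_of_le ?_
    rintro _ ⟨t, ht, rfl⟩
    refine hC t t.2 fun y hy => commutatorElement_eq_one_iff_mul_comm.1 ?_
    obtain ⟨a, ha⟩ := QuotientGroup.mk_out_eq_mul (A.subgroupOf N) (⟨y, hy⟩ : N)
    have h1 : ad t ⟨y, hy⟩ = 1 := by
      have h2 : ad t (((⟨y, hy⟩ : N) : ι).out) = 1 := congrFun ht _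
      rwa [ha, map_mul, MonoidHom.mem_ker.1 (had t a.2), mul_one] at h2
    exact congrArg Subtype.val h1
  have hrange : Nat.card θ.range ≤ A.relIndex N := by
    let φ : θ.range → (ι →* L) := fun f => QuotientGroup.lift (A.subgroupOf N)
      (ψ.comp (ad f.2.choose)) fun w hw => by
        rw [MonoidHom.mem_ker, MonoidHom.comp_apply, MonoidHom.mem_ker.1 (had _ hw), map_one]
    have hφ : Function.Injective φ := fun f g e => Subtype.ext (funext fun q => hψ (by
      have h1 : φ f ((q.out : N) : ι) = φ g ((q.out : N) : ι) := by rw [e]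
      rw [← f.2.choose_spec, ← g.2.choose_spec]
      exact h1))
    have hli := linearIndependent_monoidHom ι L
    haveI : Finite (ι →* L) := hli.finite
    haveI := Fintype.ofFinite (ι →* L)
    have h1 := hli.fintype_card_le_finrank
    rw [Module.finrank_pi, ← Nat.card_eq_fintype_card, ← Nat.card_eq_fintype_card] at h1
    exact (Nat.card_le_card_of_injective φ hφ).trans h1
  rw [← θ.ker.index_mul_card, Subgroup.index_ker]
  exact Nat.mul_le_mul hrange hker

/-- counting the fixed points of an automorphism of prime order -/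
theorem fixed_modEq {Q : Type*} [Group Q] [Finite Q] {l : ℕ} [Fact l.Prime] (φ : MulAut Q)
    (hφ : φ ^ l = 1) :
    Nat.card Q ≡ Nat.card (φ.toMonoidHom.eqLocus (MonoidHom.id Q)) [MOD l] := by
  have hL : IsPGroup l (Subgroup.zpowers φ) := fun g => by
    obtain ⟨j, hj⟩ := Subgroup.mem_zpowers_iff.1 g.2
    refine ⟨1, Subtype.ext ?_⟩
    rw [pow_one, SubgroupClass.coe_pow, ← hj, ← zpow_natCast, ← zpow_mul, mul_comm, zpow_mul,
      zpow_natCast, hφ, one_zpow]
    rfl
  have e : MulAction.fixedPoints (Subgroup.zpowers φ) Q ≃ φ.toMonoidHom.eqLocus (MonoidHom.id Q) :=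
    { toFun := fun q => ⟨q, q.2 ⟨φ, Subgroup.mem_zpowers φ⟩⟩
      invFun := fun q => ⟨q, fun g => Subgroup.zpowers_le.2
        (show φ ∈ MulAction.stabilizer (MulAut Q) (q : Q) from q.2) g.2⟩
      left_inv := fun q => rfl
      right_inv := fun q => rfl }
  rw [← Nat.card_congr e]
  exact hL.card_modEq_card_fixedPoints Q

/-- a subgroup kept by a free automorphism of order five of a group of order sixteen -/
theorem eq_top_of_invariant {Q : Type*} [Group Q] [Finite Q] (hQ : Nat.card Q = 16)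
    (φ : MulAut Q) (hφ : φ ^ 5 = 1) (hfree : ∀ q, φ q = q → q = 1) (M : Subgroup Q)
    (hM : ∀ q ∈ M, φ q ∈ M) (hne : M ≠ ⊥) : M = ⊤ := by
  haveI : Fact (Nat.Prime 5) := ⟨by norm_num⟩
  let f : M →* M := (φ.toMonoidHom.comp M.subtype).codRestrict M fun q => hM q q.2
  have hf : Function.Injective f := fun a b e => Subtype.ext (φ.injective (congrArg Subtype.val e))
  let φM : MulAut M := MulEquiv.ofBijective f (Finite.injective_iff_bijective.1 hf)
  have hpow : ∀ j : ℕ, ∀ q : M, (((φM ^ j) q : M) : Q) = (φ ^ j) (q : Q) := by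
    intro j
    induction j with
    | zero => intro q; rfl
    | succ j ih =>
      intro q
      rw [pow_succ, pow_succ, MulAut.mul_apply, MulAut.mul_apply, ih]
      rfl
  have h5 : φM ^ 5 = 1 := MulEquiv.ext fun q => Subtype.ext (by rw [hpow, hφ]; rfl)
  have h := fixed_modEq φM h5
  have hbot : φM.toMonoidHom.eqLocus (MonoidHom.id M) = ⊥ := (Subgroup.eq_bot_iff_forall _).2
    fun q hq => Subtype.ext (hfree q (congrArg Subtype.val hq))
  rw [hbot, Subgroup.card_bot] at h
  have hdvd := Subgroup.card_subgroup_dvd_card M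
  rw [hQ] at hdvd
  refine Subgroup.eq_top_of_card_eq M ?_
  have hne1 : Nat.card M ≠ 1 := fun e => hne (Subgroup.card_eq_one.1 e)
  have hle := Nat.le_of_dvd (by norm_num) hdvd
  unfold Nat.ModEq at h
  rw [hQ]
  generalize Nat.card M = c at *
  interval_cases c <;> omega

/-- no nontrivial two-group is normalized by a free automorphism of order five -/
theorem eq_bot_of_two_group {Q : Type*} [Group Q] [Finite Q] (hQ : Nat.card Q = 16)
    (φ : MulAut Q) (hφ : φ ^ 5 = 1) (hfree : ∀ q, φ q = q → q = 1) (P : Subgroup (MulAut Q))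
    (hP : IsPGroup 2 P) (hnorm : ∀ l ∈ P, φ⁻¹ * l * φ ∈ P) : P = ⊥ := by
  let F : Subgroup Q :=
    { carrier := {q | ∀ l ∈ P, (l : MulAut Q) q = q}
      one_mem' := fun l _ => map_one l
      mul_mem' := fun {a b} ha hb l hl => by rw [map_mul, ha l hl, hb l hl]
      inv_mem' := fun {a} ha l hl => by rw [map_inv, ha l hl] }
  have hFcard : Nat.card (MulAction.fixedPoints P Q) = Nat.card F := Nat.card_congr
    { toFun := fun q => ⟨q, fun l hl => q.2 ⟨l, hl⟩⟩
      invFun := fun q => ⟨q, fun l => q.2 l l.2⟩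
      left_inv := fun q => rfl
      right_inv := fun q => rfl }
  haveI : Fact (Nat.Prime 2) := ⟨Nat.prime_two⟩
  have hmod := hP.card_modEq_card_fixedPoints Q
  rw [hFcard, hQ] at hmod
  have hne : F ≠ ⊥ := fun e => by
    rw [e, Subgroup.card_bot] at hmod
    exact absurd hmod (by decide)
  have htop := eq_top_of_invariant hQ φ hφ hfree F (fun q hq l hl => ?_) hne
  · exact (Subgroup.eq_bot_iff_forall _).2 fun l hl => MulEquiv.ext fun q =>
      (htop ▸ Subgroup.mem_top q : q ∈ F) l hl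
  · have h := congrArg φ (hq _ (hnorm l hl))
    rwa [MulAut.mul_apply, MulAut.mul_apply, MulAut.apply_inv_self] at h

/-- a solvable two and five group of automorphisms with a free element of order five -/
theorem image_facts {B : Type*} [Group B] [Finite B] (hB : Nat.card B = 16) (Q : Subgroup (MulAut B))
    [Group.IsSolvable Q] (hQ25 : Nat.card Q ∣ 2 ^ 9 * 5) (xq : Q)
    (hx5 : (xq : MulAut B) ^ 5 = 1) (hx1 : (xq : MulAut B) ≠ 1)
    (hfree : ∀ q, (xq : MulAut B) q = q → q = 1) :
    ∃ s, Nat.card Q = 5 * s ∧ s ∣ 4 ∧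
      (∀ z : Q, z * xq = xq * z → z ≠ 1 → xq ∈ Subgroup.zpowers z) ∧
      ∀ Y : Subgroup Q, xq ∉ Y → Nat.card Y ≤ s := by
  classical
  haveI : Fact (Nat.Prime 5) := ⟨by norm_num⟩
  haveI : Fact (Nat.Prime 2) := ⟨Nat.prime_two⟩
  set φ : MulAut B := (xq : MulAut B) with hφ
  have hxq : orderOf xq = 5 := by rw [← Subgroup.orderOf_coe]; exact orderOf_eq_prime hx5 hx1
  have hodd : ∀ z : Q, z ^ 2 = 1 → z * xq = xq * z → z = 1 := by
    intro z hz hc
    have hb := eq_bot_of_two_group hB φ hx5 hfree (Subgroup.zpowers (z : MulAut B))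
      (fun g => by
        obtain ⟨j, hj⟩ := Subgroup.mem_zpowers_iff.1 g.2
        refine ⟨1, Subtype.ext ?_⟩
        rw [pow_one, SubgroupClass.coe_pow, ← hj, ← zpow_natCast, ← zpow_mul, mul_comm, zpow_mul,
          zpow_natCast, ← SubgroupClass.coe_pow, hz, Subgroup.coe_one, one_zpow]
        rfl)
      (fun l hl => by
        obtain ⟨j, rfl⟩ := Subgroup.mem_zpowers_iff.1 hl
        have hc' : Commute (z : MulAut B) φ := congrArg Subtype.val hc
        rw [mul_assoc, (hc'.zpow_left j).eq, inv_mul_cancel_left]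
        exact ⟨j, rfl⟩)
    exact Subtype.ext ((Subgroup.zpowers_eq_bot).1 hb)
  -- a normal subgroup of order five
  obtain ⟨M, ⟨hMn, hMne⟩, hMmin'⟩ := wellFounded_lt.has_min
    {M : Subgroup Q | M.Normal ∧ M ≠ ⊥} ⟨⊤, inferInstance, fun e => by
      have : xq ∈ (⊥ : Subgroup Q) := e ▸ Subgroup.mem_top xq
      rw [Subgroup.mem_bot] at this
      rw [this, orderOf_one] at hxq
      omega⟩
  haveI := hMn
  have hMmin : ∀ M' : Subgroup Q, M'.Normal → M' ≤ M → M' ≠ ⊥ → M' = M := fun M' h1 h2 h3 =>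
    h2.eq_or_lt.resolve_right fun h => hMmin' M' ⟨h1, h3⟩ h
  have hMc : ∀ a ∈ M, ∀ b ∈ M, a * b = b * a := by
    have hlt : ⁅M, M⁆ < M := Group.IsSolvable.commutator_lt_of_ne_bot hMne
    have h1 : ⁅M, M⁆ = ⊥ := by
      by_contra h
      exact hlt.ne (hMmin _ inferInstance hlt.le h)
    intro a ha b hb
    have h2 := Subgroup.commutator_mem_commutator ha hb
    rw [h1, Subgroup.mem_bot] at h2
    exact commutatorElement_eq_one_iff_mul_comm.1 h2
  have hcop2 : ∀ K : Subgroup Q, ¬ 2 ∣ Nat.card K → Nat.card K ∣ 5 := fun K hK =>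
    ((Nat.prime_two.coprime_iff_not_dvd.2 hK).symm.pow_right 9).dvd_of_dvd_mul_left
      ((Subgroup.card_subgroup_dvd_card K).trans hQ25)
  have hM5 : Nat.card M = 5 := by
    have hodd' : ¬ 2 ∣ Nat.card M := by
      intro h2
      obtain ⟨t, ht⟩ := exists_prime_orderOf_dvd_card' (G := M) 2 h2
      let Ω : Subgroup (MulAut B) :=
        { carrier := {g | ∃ z ∈ M, z ^ 2 = 1 ∧ ((z : Q) : MulAut B) = g}
          one_mem' := ⟨1, M.one_mem, one_pow 2, rfl⟩
          mul_mem' := by
            rintro _ _ ⟨a, ha, ha2, rfl⟩ ⟨b, hb, hb2, rfl⟩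
            exact ⟨a * b, M.mul_mem ha hb, by
              rw [(Commute.mul_pow (hMc a ha b hb)), ha2, hb2, one_mul], rfl⟩
          inv_mem' := by
            rintro _ ⟨a, ha, ha2, rfl⟩
            exact ⟨a⁻¹, M.inv_mem ha, by rw [inv_pow, ha2, inv_one], rfl⟩ }
      have hΩ := eq_bot_of_two_group hB φ hx5 hfree Ω
        (fun g => by
          obtain ⟨z, hz, hz2, hzg⟩ := g.2
          refine ⟨1, Subtype.ext ?_⟩
          rw [pow_one, SubgroupClass.coe_pow, ← hzg, ← SubgroupClass.coe_pow, hz2]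
          rfl)
        (by
          rintro _ ⟨z, hz, hz2, rfl⟩
          refine ⟨xq⁻¹ * z * xq, by simpa using hMn.conj_mem z hz xq⁻¹, ?_, rfl⟩
          rw [sq, show xq⁻¹ * z * xq * (xq⁻¹ * z * xq) = xq⁻¹ * (z * z) * xq by group, ← sq, hz2]
          group)
      have htΩ : (((t : M) : Q) : MulAut B) ∈ Ω :=
        ⟨(t : Q), t.2, by rw [← SubgroupClass.coe_pow, ← ht, pow_orderOf_eq_one, Subgroup.coe_one], rfl⟩
      rw [hΩ, Subgroup.mem_bot, OneMemClass.coe_eq_one, OneMemClass.coe_eq_one] at htΩ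
      rw [htΩ, orderOf_one] at ht
      omega
    rcases (Nat.dvd_prime (by norm_num : Nat.Prime 5)).1 (hcop2 M hodd') with h | h
    · exact absurd (Subgroup.card_eq_one.1 h) hMne
    · exact h
  obtain ⟨s, hs'⟩ : ∃ s, Nat.card Q = 5 * s := hM5 ▸ Subgroup.card_subgroup_dvd_card M
  have hidxM : M.index = s := by
    have h := M.index_mul_card
    rw [hM5, hs', mul_comm 5 s] at h
    exact Nat.eq_of_mul_eq_mul_right (by norm_num) h
  have hs2 : s ∣ 2 ^ 9 := Nat.dvd_of_mul_dvd_mul_left (by norm_num : 0 < 5)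
    (by rw [← hs']; simpa [mul_comm] using hQ25)
  have hmem5 : ∀ y : Q, orderOf y = 5 → y ∈ M := by
    intro y hy
    rw [← QuotientGroup.eq_one_iff, ← orderOf_eq_one_iff]
    refine Nat.eq_one_of_dvd_coprimes (by norm_num : Nat.Coprime 5 (2 ^ 9))
      (hy ▸ orderOf_map_dvd (QuotientGroup.mk' M) y) ?_
    exact (orderOf_dvd_natCard _).trans ((Subgroup.index_eq_card M) ▸ hidxM ▸ hs2)
  have hgen : ∀ y ∈ M, y ≠ 1 → xq ∈ Subgroup.zpowers y := by
    intro y hy hy1
    have h5 : orderOf y = 5 := ((Nat.dvd_prime (by norm_num : Nat.Prime 5)).1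
      (hM5 ▸ Subgroup.orderOf_dvd_natCard M hy)).resolve_left fun e => hy1 (orderOf_eq_one_iff.1 e)
    have he : Subgroup.zpowers y = M := Subgroup.eq_of_le_of_card_ge (Subgroup.zpowers_le.2 hy)
      (by rw [Nat.card_zpowers, h5, hM5])
    rw [he]
    exact hmem5 xq hxq
  have hCM : ∀ z : Q, z * xq = xq * z → z ∈ M := by
    intro z hz
    have hd5 : Nat.card (Subgroup.centralizer ({xq} : Set Q)) ∣ 5 := by
      refine hcop2 _ fun h2 => ?_
      obtain ⟨t, ht⟩ := exists_prime_orderOf_dvd_card' (G := Subgroup.centralizer ({xq} : Set Q)) 2 h2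
      have h1 := hodd (t : Q) (by rw [← SubgroupClass.coe_pow, ← ht, pow_orderOf_eq_one, Subgroup.coe_one])
        (Subgroup.mem_centralizer_singleton_iff.1 t.2)
      rw [OneMemClass.coe_eq_one] at h1
      rw [h1, orderOf_one] at ht
      omega
    have hMle : M ≤ Subgroup.centralizer ({xq} : Set Q) := fun y hy =>
      Subgroup.mem_centralizer_singleton_iff.2 (hMc y hy xq (hmem5 xq hxq))
    have he := Subgroup.eq_of_le_of_card_ge hMle (by rw [hM5]; exact Nat.le_of_dvd (by norm_num) hd5)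
    rw [he]
    exact Subgroup.mem_centralizer_singleton_iff.2 hz
  have hs4 : s ∣ 4 := by
    haveI : IsCyclic M := isCyclic_of_prime_card hM5
    let c : Q →* MulAut M := MulAut.conjNormal
    have hker : c.ker ≤ M := fun z hz => hCM z (by
      have h := congrArg Subtype.val
        (DFunLike.congr_fun (MonoidHom.mem_ker.1 hz) (⟨xq, hmem5 xq hxq⟩ : M))
      change z * xq * z⁻¹ = xq at h
      exact mul_inv_eq_iff_eq_mul.1 h)
    refine hidxM ▸ (Subgroup.index_dvd_of_le hker).trans ?_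
    rw [Subgroup.index_ker]
    refine (Subgroup.card_subgroup_dvd_card _).trans ?_
    rw [Nat.card_congr (IsCyclic.mulAutMulEquiv M).toEquiv, hM5, Nat.card_eq_fintype_card,
      ZMod.card_units]
  refine ⟨s, hs', hs4, fun z hz hz1 => hgen z (hCM z hz) hz1, fun Y hY => ?_⟩
  have hs0 : 0 < s := Nat.pos_of_ne_zero fun e => by
    rw [e, mul_zero] at hs'; exact Nat.card_pos.ne' hs'
  refine Nat.le_of_dvd hs0 ?_
  have hd := Subgroup.card_subgroup_dvd_card Y
  rw [hs'] at hd
  refine Nat.Coprime.dvd_of_dvd_mul_left ?_ hd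
  refine ((Nat.Prime.coprime_iff_not_dvd (by norm_num)).2 fun h5 => hY ?_).symm
  obtain ⟨y, hy⟩ := exists_prime_orderOf_dvd_card' (G := Y) 5 h5
  have hy' : orderOf (y : Q) = 5 := (Subgroup.orderOf_coe y).trans hy
  have hy1 : (y : Q) ≠ 1 := fun e => by rw [e, orderOf_one] at hy'; omega
  exact (Subgroup.zpowers_le.2 y.2) (hgen _ (hmem5 _ hy') hy1)

/-- the centralizers outside the centre of the layer -/
theorem centralizer_bound {G B : Type*} [Group G] [Finite G] [Group B] [Finite B] {A N : Subgroup G}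
    (α : G →* MulAut B) (hker : α.ker = N) (hN : Nat.card N = 32) (hA : Nat.card A = 2)
    (hCN : ∀ z : G, (∀ y ∈ N, z * y = y * z) → z ∈ A) (f : N → B)
    (hf1 : ∀ w, f w = 1 → (w : G) ∈ A)
    (hfc : ∀ (t : G) (w : N), t * (w : G) = (w : G) * t → α t (f w) = f w)
    (x : G) (hfree : ∀ q, α x q = q → q = 1) {s : ℕ} (hQ : Nat.card α.range = 5 * s)
    (hgen : ∀ z : α.range, z * α.rangeRestrict x = α.rangeRestrict x * z → z ≠ 1 →
      α.rangeRestrict x ∈ Subgroup.zpowers z)
    (hY : ∀ Y : Subgroup α.range, α.rangeRestrict x ∉ Y → Nat.card Y ≤ s) {g : G} (hg : g ∉ A) :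
    Nat.card (Subgroup.centralizer ({g} : Set G)) ≤ 16 * s := by
  classical
  set C := Subgroup.centralizer ({g} : Set G)
  let β : C →* α.range := α.rangeRestrict.comp C.subtype
  have hβker : Nat.card β.ker = Nat.card (C ⊓ N : Subgroup G) := by
    rw [← Subgroup.card_subtype C β.ker]
    congr 2
    ext y
    constructor
    · rintro ⟨u, hu, rfl⟩
      exact ⟨u.2, hker ▸ (MonoidHom.mem_ker.2 (congrArg Subtype.val hu) : (u : G) ∈ α.ker)⟩
    · rintro ⟨hyC, hyN⟩
      exact ⟨⟨y, hyC⟩, Subtype.ext (MonoidHom.mem_ker.1 (hker.symm ▸ hyN : y ∈ α.ker)), rfl⟩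
  rw [← β.ker.index_mul_card, Subgroup.index_ker, hβker]
  by_cases hx : α.rangeRestrict x ∈ β.range
  · obtain ⟨t, ht⟩ := hx
    have ht' : α (t : G) = α x := congrArg Subtype.val ht
    have htg : (t : G) * g = g * (t : G) := Subgroup.mem_centralizer_singleton_iff.1 t.2
    have hgN : g ∉ N := fun hgN => hg (hf1 ⟨g, hgN⟩ (hfree _ (ht' ▸ hfc (t : G) ⟨g, hgN⟩ htg)))
    have hz1 : α.rangeRestrict g ≠ 1 := fun e =>
      hgN (hker ▸ (MonoidHom.mem_ker.2 (congrArg Subtype.val e) : g ∈ α.ker))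
    obtain ⟨i, hi⟩ := Subgroup.mem_zpowers_iff.1 (hgen _ (by
      rw [← ht]
      show α.rangeRestrict g * α.rangeRestrict (t : G) = α.rangeRestrict (t : G) * α.rangeRestrict g
      rw [← map_mul, ← map_mul, htg]) hz1)
    have hle : (C ⊓ N : Subgroup G) ≤ A := by
      rintro w ⟨hwC, hwN⟩
      refine hf1 ⟨w, hwN⟩ (hfree _ ?_)
      have h1 := hfc g ⟨w, hwN⟩ (Subgroup.mem_centralizer_singleton_iff.1 hwC).symm
      have e : α g ^ i = α x := by
        have := congrArg Subtype.val hi
        rw [SubgroupClass.coe_zpow] at this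
        exact this
      rw [← e]
      exact Subgroup.zpow_mem _ (show α g ∈ MulAction.stabilizer (MulAut B) (f ⟨w, hwN⟩) from h1) i
    calc Nat.card β.range * Nat.card (C ⊓ N : Subgroup G) ≤ (5 * s) * 2 :=
          Nat.mul_le_mul (hQ ▸ Subgroup.card_le_card_group _) (hA ▸ Subgroup.card_le_of_le hle)
      _ ≤ 16 * s := by omega
  · have h2 : Nat.card (C ⊓ N : Subgroup G) ≤ 16 := by
      have hd := Subgroup.card_dvd_of_le (inf_le_right : C ⊓ N ≤ N)
      rw [hN] at hd
      by_contra hlt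
      have h32 : Nat.card (C ⊓ N : Subgroup G) = 32 := by
        have hle := Nat.le_of_dvd (by norm_num) hd
        generalize Nat.card (C ⊓ N : Subgroup G) = c at *
        interval_cases c <;> omega
      have he : C ⊓ N = N := Subgroup.eq_of_le_of_card_ge inf_le_right (by omega)
      exact hg (hCN g fun y hy =>
        (Subgroup.mem_centralizer_singleton_iff.1 (he.symm ▸ hy : y ∈ C ⊓ N).1).symm)
    calc Nat.card β.range * Nat.card (C ⊓ N : Subgroup G) ≤ s * 16 := Nat.mul_le_mul (hY _ hx) h2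
      _ = 16 * s := mul_comm _ _

variable {p : ℕ} [hp : Fact p.Prime] {V : Type*} [AddCommGroup V] [Module (ZMod p) V] [Finite V]
variable {H : Subgroup (V ≃ₗ[ZMod p] V)}

/-- without thirteen the order is a two and five number -/
theorem card_dvd_three_four {H : Subgroup (V ≃ₗ[ZMod p] V)} (hp3 : p = 3)
    (hn : Module.finrank (ZMod p) V = 4) (hcop : ¬ p ∣ Nat.card H) (h13 : ¬ 13 ∣ Nat.card H) :
    Nat.card H ∣ 2 ^ 9 * 5 := by
  classical
  subst hp3
  haveI := finite_H (H := H)
  let b := Module.finBasisOfFinrankEq (ZMod 3) V hn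
  let ρ : H →* GL (Fin 4) (ZMod 3) :=
    ((LinearMap.toMatrixAlgEquiv b).toMonoidHom.comp (endH H)).toHomUnits
  have hρ : Function.Injective ρ := fun g h e =>
    endH_injective ((LinearMap.toMatrixAlgEquiv b).injective (congrArg Units.val e))
  have hdvd := Subgroup.card_dvd_of_injective ρ hρ
  rw [Matrix.card_GL_field, ZMod.card, Fin.prod_univ_four,
    show (3 ^ 4 - 3 ^ ((0 : Fin 4) : ℕ)) * (3 ^ 4 - 3 ^ ((1 : Fin 4) : ℕ)) *
        (3 ^ 4 - 3 ^ ((2 : Fin 4) : ℕ)) * (3 ^ 4 - 3 ^ ((3 : Fin 4) : ℕ)) =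
      (2 ^ 9 * 5) * (3 ^ 6 * 13) by norm_num] at hdvd
  have hco : (Nat.card H).Coprime (3 ^ 6 * 13) :=
    Nat.Coprime.mul_right ((Nat.prime_three.coprime_iff_not_dvd.2 hcop).symm.pow_right 6)
      ((Nat.Prime.coprime_iff_not_dvd (by norm_num)).2 h13).symm
  exact hco.dvd_of_dvd_mul_right hdvd

set_option maxHeartbeats 1000000 in
/-- the eighty-one points -/
theorem bound_eightyOne [Nontrivial V] (hp3 : p = 3) (hn : Module.finrank (ZMod p) V = 4)
    (hcop : ¬ p ∣ Nat.card H) (hT : Trans H) (hsolv : Group.IsSolvable H) :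
    (∃ (F : Type) (_ : Field F) (_ : Fintype F) (e : V ≃+ F),
      ∀ h : H, ∃ (a : F) (σ : F ≃+* F), ∀ v : V, e ((h : V ≃ₗ[ZMod p] V) v) = a * σ (e v)) ∨
    ∀ v : V, v ≠ 0 →
      Nat.card (ConjClasses H) + Nat.card (ConjClasses (MulAction.stabilizer H v)) < Nat.card V := by
  classical
  subst hp3
  haveI := finite_H (H := H)
  haveI := hsolv
  haveI := Fintype.ofFinite H
  obtain ⟨A, ⟨hAn, hAc⟩, hAmax'⟩ := wellFounded_gt.has_min
    {A : Subgroup H | A.Normal ∧ IsMulCommutative A} ⟨⊥, inferInstance, inferInstance⟩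
  have hAmax : ∀ B : Subgroup H, B.Normal → IsMulCommutative B → A ≤ B → B = A :=
    fun B hB hBc hle => (hle.eq_or_lt.resolve_right (hAmax' B ⟨hB, hBc⟩)).symm
  obtain ⟨W, -, hW⟩ := NearField.exists_irr_le (A := A) NearField.inv_top
    (top_ne_bot (α := Submodule (ZMod 3) V))
  by_cases hWt : W = ⊤
  · exact Or.inl (TransLinear.semilinear_of_irr hT hAn hAc (hWt ▸ hW))
  right
  intro v hv
  set k := Module.finrank (ZMod 3) W
  have hk : 0 < k := by
    haveI : Nontrivial W := Submodule.nontrivial_iff_ne_bot.2 hW.2.1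
    exact Module.finrank_pos
  have hK : Nat.card (alg A) = 3 ^ k := by
    rw [TransLinear.card_alg hT hAn hAc hW, Module.natCard_eq_pow_finrank (K := ZMod 3) (V := W),
      Nat.card_zmod]
  have hV : Nat.card V = 3 ^ 4 := by
    rw [Module.natCard_eq_pow_finrank (K := ZMod 3) (V := V), hn, Nat.card_zmod]
  have hklt : k < 4 := hn ▸ Submodule.finrank_lt hWt
  letI : CommRing (alg A) :=
    { (inferInstance : Ring (alg A)) with
      mul_comm := fun x y => Subtype.ext (alg_comm hAc x.2 y.2) }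
  haveI : IsDomain (alg A) := TransLinear.alg_isDomain hT hAn hAc
  obtain ⟨m, hkm⟩ : ∃ m, 4 = k * m := by
    obtain ⟨k', hk', hK', -, -⟩ := abelian_normal_facts hT hn A hAn hAc
    obtain rfl := Nat.pow_right_injective hp.out.two_le (hK'.symm.trans hK)
    exact hk'
  have hm2 : 2 ≤ m := by
    by_contra hlt
    interval_cases m <;> omega
  have hVkm : Nat.card V = 3 ^ (k * m) := hkm ▸ hV
  have hcardH : 80 ∣ Nat.card H := by
    have h := TransLinear.card_dvd_of_trans hT
    rwa [hV, show 3 ^ 4 - 1 = 80 by norm_num] at h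
  by_cases hCA : Subgroup.centralizer (A : Set H) = A
  · exfalso
    have h1 := Nat.le_of_dvd Nat.card_pos hcardH
    rw [← A.index_mul_card] at h1
    have h2 : A.index ≤ k := Nat.le_of_dvd hk (hCA ▸ TransLinear.galois_index hT hAn hAc hK)
    have h3 := TransLinear.card_dvd_sub_one hT hAn hAc hK
    have h4 := Nat.le_of_dvd (Nat.sub_pos_of_lt (Nat.one_lt_pow hk.ne' (by norm_num))) h3
    have h5 := Nat.mul_le_mul h2 h4
    interval_cases k <;> first | omega | (norm_num at h5; omega)
  obtain ⟨N, r, hNn, hNA, hs, hrA⟩ := TransLinear.exists_layer hT hsolv hAn hAc hAmax hCA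
  haveI := hNn
  haveI := hAn
  haveI : Fact (Nat.Prime 5) := ⟨by norm_num⟩
  haveI : Fact (Nat.Prime 2) := ⟨Nat.prime_two⟩
  have hprim : ∀ j, 0 < j → j < 4 → ¬ 5 ∣ 3 ^ j - 1 := fun j hj hj4 => by
    interval_cases j <;> norm_num
  obtain ⟨hk1, hℓm, -, -, -⟩ := TransLinear.primitive_step hT hAn hAc hs hNn hNA hrA hk hm2 hK hVkm
    (ℓ := 5) (by norm_num) (by rw [← hkm]; norm_num) (fun j hj hjm => hprim j hj (hkm ▸ hjm))
  obtain rfl : m = 4 := by omega
  rw [hk1] at hK hVkm
  have hA2 : Nat.card A ∣ 2 := by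
    have h := TransLinear.card_dvd_sub_one hT hAn hAc hK
    rwa [show 3 ^ 1 - 1 = 2 by norm_num] at h
  obtain rfl : r = 2 :=
    (Nat.prime_dvd_prime_iff_eq hs.prime Nat.prime_two).1 (hrA.trans hA2)
  have hAcard : Nat.card A = 2 := Nat.dvd_antisymm hA2 hrA
  have hcenA : ∀ g : H, ∀ a ∈ A, a * g = g * a := fun g a ha => by
    have hC : Subgroup.centralizer (A : Set H) = ⊤ := Subgroup.index_eq_one.1
      (Nat.dvd_one.1 (TransLinear.galois_index hT hAn hAc hK))
    exact Subgroup.mem_centralizer_iff.1 (hC ▸ Subgroup.mem_top g) a ha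
  obtain ⟨hbound, -⟩ := TransLinear.layer_bound hT hAn hAc hs Nat.one_pos hK hVkm
  obtain ⟨d, hd⟩ := hs.square N hs.le le_rfl hs.radical
  have hd1 : d ≠ 0 := by
    rintro rfl
    exact hNA (Subgroup.relIndex_eq_one.1 (by simpa using hd))
  have hd2 : d ≤ 2 := by
    by_contra hlt
    have : 2 ^ 6 ≤ 2 ^ (2 * d) := Nat.pow_le_pow_right (by norm_num) (by omega)
    rw [← hd] at this
    omega
  obtain ⟨x, hx⟩ := exists_prime_orderOf_dvd_card' (G := H) 5
    ((by norm_num : 5 ∣ 80).trans hcardH)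
  have hxirr : IrrElt x :=
    primitive_irrElt (by norm_num) hV (fun i h1 h2 => hprim i h1 h2) (by omega) hx
  have hxN : ¬ ∀ y ∈ N, x * y = y * x := fun h => hNA fun z hz =>
    hs.radical z hz fun y hy => comm_of_irrElt hxirr
      (Subgroup.mem_centralizer_singleton_iff.2 (h z hz).symm)
      (Subgroup.mem_centralizer_singleton_iff.2 (h y hy).symm)
  set π : H →* H ⧸ A := QuotientGroup.mk' A
  have hπ1 : ∀ y, π y = 1 ↔ y ∈ A := fun y => QuotientGroup.eq_one_iff y
  set Nb := N.map π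
  haveI hNbn : Nb.Normal := Subgroup.Normal.map hNn π (QuotientGroup.mk'_surjective A)
  have hNbc : Nat.card Nb = A.relIndex N := by
    rw [← Subgroup.relIndex_ker, QuotientGroup.ker_mk']
  let α : H →* MulAut Nb := (MulAut.conjNormal (H := Nb)).comp π
  have hα : ∀ g : H, α g = 1 ↔ ∀ w ∈ N, ⁅g, w⁆ ∈ A := by
    intro g
    constructor
    · intro hg w hw
      rw [← hπ1, map_commutatorElement]
      have h := congrArg Subtype.val (DFunLike.congr_fun hg (⟨π w, w, hw, rfl⟩ : Nb))
      change π g * π w * (π g)⁻¹ = π w at h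
      rw [commutatorElement_def, h, mul_inv_cancel]
    · intro hg
      refine MulEquiv.ext fun q => Subtype.ext ?_
      obtain ⟨w, hw, hwq⟩ := q.2
      show π g * (q : H ⧸ A) * (π g)⁻¹ = (q : H ⧸ A)
      have h := (hπ1 _).2 (hg w hw)
      rw [map_commutatorElement, commutatorElement_eq_one_iff_mul_comm] at h
      rw [← hwq, h, mul_inv_cancel_right]
  have hxb : α x ≠ 1 := fun h => hxN fun y hy => hs.fixed_of_mod hNn
    (show x ^ 5 = 1 by rw [← hx, pow_orderOf_eq_one]) (by norm_num) (fun a ha => (hcenA x a ha).symm)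
    hy (by rw [← commutatorElement_def]; exact (hα x).1 h y hy)
  have hxb5 : α x ^ 5 = 1 := by rw [← map_pow, ← hx, pow_orderOf_eq_one, map_one]
  have hxord : orderOf (α x) = 5 := orderOf_eq_prime hxb5 hxb
  have h16 : A.relIndex N = 16 := by
    rcases (show d = 1 ∨ d = 2 by omega) with rfl | rfl
    · exfalso
      have h := (Subgroup.orderOf_dvd_natCard α.range (MonoidHom.mem_range.2 ⟨x, rfl⟩)).trans
        (TransLinear.card_aut_dvd_six (hNbc.trans hd) α.range)
      rw [hxord] at h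
      norm_num at h
    · simpa using hd
  have hNb16 : Nat.card Nb = 16 := hNbc.trans h16
  have hCN : ∀ z : H, (∀ y ∈ N, z * y = y * z) → z ∈ A := fun z hz =>
    TransLinear.mem_of_full hT hAn hAc hAmax hs hNn Nat.one_pos hK hVkm (by rw [h16])
      (hcenA z) hz
  have hNcard : Nat.card N = 32 := by
    have h := Subgroup.relIndex_mul_relIndex (⊥ : Subgroup H) A N bot_le hs.le
    rw [Subgroup.relIndex_bot_left, Subgroup.relIndex_bot_left, hAcard, h16] at h
    exact h.symm
  have hkerN : α.ker = N := by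
    have hle : N ≤ α.ker := fun y hy => (hα y).2 fun w hw => hs.comm y hy w hw
    refine (Subgroup.eq_of_le_of_card_ge hle ?_).symm
    have h := card_le_of_layer hs hcenA α.ker (fun t ht => (hα t).1 (MonoidHom.mem_ker.1 ht))
      (fun t _ h => hCN t h) (toAlg A) toAlg_injective
    rw [h16, hAcard] at h
    omega
  -- the free action of the element of order five
  have hfree : ∀ q, α x q = q → q = 1 := by
    have h := fixed_modEq (α x) hxb5
    set F := (α x).toMonoidHom.eqLocus (MonoidHom.id Nb)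
    have hF : F = ⊥ := by
      by_contra hne
      have hdvd := Subgroup.card_subgroup_dvd_card F
      rw [hNb16] at h hdvd
      have hne1 : Nat.card F ≠ 1 := fun e => hne (Subgroup.card_eq_one.1 e)
      have h16' : Nat.card F = 16 := by
        have hle := Nat.le_of_dvd (by norm_num) hdvd
        unfold Nat.ModEq at h
        generalize Nat.card F = c at *
        interval_cases c <;> omega
      have htop : F = ⊤ := Subgroup.eq_top_of_card_eq F (h16'.trans hNb16.symm)
      exact hxb (MulEquiv.ext fun q => (htop ▸ Subgroup.mem_top q : q ∈ F))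
    intro q hq
    rw [← Subgroup.mem_bot, ← hF]
    exact hq
  have h13 : ¬ 13 ∣ Nat.card H := by
    intro h13
    haveI : Fact (Nat.Prime 13) := ⟨by norm_num⟩
    obtain ⟨y, hy⟩ := exists_prime_orderOf_dvd_card' (G := H) 13 h13
    have h := fixed_modEq (α y) (by rw [← map_pow, ← hy, pow_orderOf_eq_one, map_one] : α y ^ 13 = 1)
    set F := (α y).toMonoidHom.eqLocus (MonoidHom.id Nb)
    have hdvd := Subgroup.card_subgroup_dvd_card F
    rw [hNb16] at h hdvd
    have h16' : Nat.card F = 16 := by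
      have hle := Nat.le_of_dvd (by norm_num) hdvd
      unfold Nat.ModEq at h
      generalize Nat.card F = c at *
      interval_cases c <;> omega
    have htop : F = ⊤ := Subgroup.eq_top_of_card_eq F (h16'.trans hNb16.symm)
    have hyN : y ∈ N := hkerN ▸ (MonoidHom.mem_ker.2
      (MulEquiv.ext fun q => (htop ▸ Subgroup.mem_top q : q ∈ F)) : y ∈ α.ker)
    have hd13 := Subgroup.orderOf_dvd_natCard N hyN
    rw [hy, hNcard] at hd13
    norm_num at hd13
  have hH25 := card_dvd_three_four rfl hn hcop h13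
  -- the image
  set Q := α.range
  have hQ25 : Nat.card Q ∣ 2 ^ 9 * 5 := (Subgroup.card_range_dvd α).trans hH25
  haveI : Group.IsSolvable Q :=
    Group.isSolvable_of_surjective (f := α.rangeRestrict) α.rangeRestrict_surjective
  set xq : Q := ⟨α x, MonoidHom.mem_range.2 ⟨x, rfl⟩⟩
  obtain ⟨s, hs', hs4, hgenC, hY'⟩ := image_facts hNb16 Q hQ25 xq hxb5 hxb hfree
  -- the centralizers
  have hcent : ∀ g ∉ (A : Set H), Nat.card (Subgroup.centralizer ({g} : Set H)) ≤ 16 * s := fun g hg =>
    centralizer_bound α hkerN hNcard hAcard hCN (fun w => (⟨π w, w, w.2, rfl⟩ : Nb))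
      (fun w h => (hπ1 _).1 (congrArg Subtype.val h))
      (fun t w h => Subtype.ext (by
        show π t * π (w : H) * (π t)⁻¹ = π (w : H)
        rw [← map_mul, h, map_mul, mul_inv_cancel_right]))
      x hfree hs' hgenC hY' hg
  have hkH := classes_le_add (G := H) (A : Set H) (16 * s) hcent
  haveI := Fintype.ofFinite (MulAction.stabilizer H v)
  have hkS := card_classes_le (G := MulAction.stabilizer H v)
  have hH : Nat.card H = 5 * s * 32 := by
    rw [← hs', ← hNcard, ← hkerN, ← Subgroup.index_ker, Subgroup.index_mul_card]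
  have hst := card_eq_mul_stabilizer hT hv
  rw [hV, hH, show 3 ^ 4 - 1 = 80 by norm_num] at hst
  have hAset : Nat.card (A : Set H) = 2 := hAcard
  rw [hV, show (3 : ℕ) ^ 4 = 81 by norm_num]
  have := Nat.le_of_dvd (by norm_num) hs4
  omega

end Cfsg.Agent.Perm.TransCoprime
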