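import Mathlib
import Cfsg.Agent.Lib.Perm.TransCoprime.Plane

/-!
# Class numbers of coprime transitive semilinear groups
-/

set_option autoImplicit false
set_option linter.style.haveILetI false
set_option linter.unusedSectionVars false

namespace Cfsg.Agent.Perm.TransCoprime

open TransLinear (Trans card_dvd_of_trans)
open NearField (endH endH_apply endH_injective finite_end finite_H)

theorem sq_lt_three_pow : ∀ n : ℕ, 3 ≤ n → (2 * n - 1) ^ 2 < 3 ^ n := by
  intro n hn
  induction n, hn using Nat.le_induction with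
  | base => norm_num
  | succ n hn ih =>
    obtain ⟨m, rfl⟩ : ∃ m, n = m + 3 := ⟨n - 3, by omega⟩
    rw [pow_succ 3 (m + 3), show 2 * (m + 3 + 1) - 1 = 2 * m + 7 by omega]
    rw [show 2 * (m + 3) - 1 = 2 * m + 5 by omega] at ih
    nlinarith

theorem cube_lt_four_pow : ∀ n : ℕ, 5 ≤ n → (2 * n - 1) ^ 3 < 4 ^ n := by
  intro n hn
  induction n, hn using Nat.le_induction with
  | base => norm_num
  | succ n hn ih =>
    obtain ⟨m, rfl⟩ : ∃ m, n = m + 5 := ⟨n - 5, by omega⟩
    rw [pow_succ 4 (m + 5), show 2 * (m + 5 + 1) - 1 = 2 * m + 11 by omega]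
    rw [show 2 * (m + 5) - 1 = 2 * m + 9 by omega] at ih
    have h1 : (2 * (2 * m + 11)) ^ 3 ≤ (3 * (2 * m + 9)) ^ 3 := Nat.pow_le_pow_left (by omega) 3
    rw [mul_pow, mul_pow] at h1
    norm_num at h1
    omega

/-- a subfield fixed by a nontrivial automorphism -/
theorem fixed_field_facts {F : Type*} [Field F] [Finite F] (σ : F ≃+* F) (hσ : σ ≠ RingEquiv.refl F) :
    ∃ j : ℕ, 2 ≤ j ∧
      Nat.card F = Nat.card (RingHom.eqLocusField σ.toRingHom (RingHom.id F)) ^ j ∧
      (j = 2 → ∀ x, σ (σ x) = x) := by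
  classical
  set K := RingHom.eqLocusField σ.toRingHom (RingHom.id F)
  haveI : Finite K := Subtype.finite
  haveI : Module.Finite K F := Module.Finite.of_finite
  have hcard : Nat.card F = Nat.card K ^ Module.finrank K F := Module.natCard_eq_pow_finrank
  refine ⟨Module.finrank K F, ?_, hcard, fun h2 x => ?_⟩
  · by_contra hlt
    have hpos : 0 < Module.finrank K F := Module.finrank_pos
    have h1 : Module.finrank K F = 1 := by omega
    refine hσ (RingEquiv.ext fun x => ?_)
    obtain ⟨c, hc⟩ := (finrank_eq_one_iff_of_nonzero' (1 : F) one_ne_zero).1 h1 x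
    rw [← hc, Subfield.smul_def, smul_eq_mul, mul_one]
    exact c.2
  · haveI := Fintype.ofFinite F
    haveI := Fintype.ofFinite K
    let τ : F ≃ₐ[K] F := AlgEquiv.ofRingEquiv (f := σ) fun c => c.2
    have hc : Nat.card (F ≃ₐ[K] F) = 2 := by rw [IsGalois.card_aut_eq_finrank, h2]
    have h := pow_card_eq_one' (x := τ)
    rw [hc, pow_two] at h
    exact AlgEquiv.congr_fun h x

variable {p : ℕ} [hp : Fact p.Prime] {V : Type*} [AddCommGroup V] [Module (ZMod p) V] [Finite V]
variable {H : Subgroup (V ≃ₗ[ZMod p] V)}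

theorem bound_semilinear [Nontrivial V] (hcop : ¬ p ∣ Nat.card H) {n : ℕ}
    (hn : Module.finrank (ZMod p) V = n) (hn3 : 3 ≤ n) (hT : Trans H)
    (hsl : ∃ (F : Type) (_ : Field F) (_ : Fintype F) (e : V ≃+ F),
      ∀ h : H, ∃ (a : F) (σ : F ≃+* F), ∀ v : V, e ((h : V ≃ₗ[ZMod p] V) v) = a * σ (e v))
    {v : V} (hv : v ≠ 0) :
    Nat.card (ConjClasses H) + Nat.card (ConjClasses (MulAction.stabilizer H v)) ≤ Nat.card V ∧
      (Nat.card (ConjClasses H) + Nat.card (ConjClasses (MulAction.stabilizer H v)) = Nat.card V →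
        IsCyclic H ∨ (Nat.card V = 8 ∧ Nat.card H = 21)) := by
  classical
  haveI := finite_H (H := H)
  haveI := Fintype.ofFinite H
  haveI := Fintype.ofFinite (MulAction.stabilizer H v)
  obtain ⟨F, iF, iF', e, hsl⟩ := hsl
  choose a σ hslf using hsl
  have hV : Nat.card V = p ^ n := by
    rw [Module.natCard_eq_pow_finrank (K := ZMod p) (V := V), hn, Nat.card_zmod]
  have hq : Nat.card F = p ^ n := by rw [← Nat.card_congr e.toEquiv, hV]
  haveI hchar : CharP F p := by
    refine (CharP.charP_iff_prime_eq_zero hp.out).2 ?_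
    have h1 : (p : F) = p • (1 : F) := by rw [nsmul_eq_mul, mul_one]
    rw [h1, ← e.apply_symm_apply 1, ← map_nsmul e, ← Nat.cast_smul_eq_nsmul (ZMod p),
      ZMod.natCast_self, zero_smul, map_zero]
  letI : Algebra (ZMod p) F := ZMod.algebra F p
  haveI : Module.Finite (ZMod p) F := Module.Finite.of_finite
  -- the twists
  have hform : ∀ (g : H) (x : F), e ((g : V ≃ₗ[ZMod p] V) (e.symm x)) = a g * σ g x := fun g x => by
    rw [hslf, e.apply_symm_apply]
  have ha : ∀ g : H, a g ≠ 0 := fun g h0 => by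
    have h := hform g 1
    rw [h0, zero_mul, ← map_zero e] at h
    have h1 := ((g : V ≃ₗ[ZMod p] V).map_eq_zero_iff).1 (e.injective h)
    exact one_ne_zero (e.symm.injective (h1.trans (map_zero e.symm).symm))
  have huniq : ∀ (g : H) (b : F) (τ : F ≃+* F),
      (∀ x, e ((g : V ≃ₗ[ZMod p] V) (e.symm x)) = b * τ x) → a g = b ∧ σ g = τ := by
    intro g b τ h
    have h1 : a g = b := by
      have h2 := (hform g 1).symm.trans (h 1)
      rwa [map_one, map_one, mul_one, mul_one] at h2
    refine ⟨h1, RingEquiv.ext fun x => mul_left_cancel₀ (ha g) ?_⟩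
    rw [← hform g x, h x, h1]
  have hmul : ∀ g h : H, a (g * h) = a g * σ g (a h) ∧ σ (g * h) = (σ h).trans (σ g) := by
    intro g h
    refine huniq _ _ _ fun x => ?_
    rw [Subgroup.coe_mul, LinearEquiv.mul_apply, hslf g, hform h, map_mul, mul_assoc]
    rfl
  let toAlg : (F ≃+* F) → (F ≃ₐ[ZMod p] F) := fun τ => AlgEquiv.ofRingEquiv (f := τ) fun r =>
    DFunLike.congr_fun (RingHom.ext_zmod (τ.toRingHom.comp (algebraMap (ZMod p) F))
      (algebraMap (ZMod p) F)) r
  let ψ : H →* (F ≃ₐ[ZMod p] F) := MonoidHom.mk' (fun g => toAlg (σ g)) fun g h => by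
    refine AlgEquiv.ext fun x => ?_
    show σ (g * h) x = σ g (σ h x)
    rw [(hmul g h).2]
    rfl
  set A := ψ.ker with hA
  have hσA : ∀ g ∈ A, ∀ x, σ g x = x := fun g hg x =>
    AlgEquiv.congr_fun (MonoidHom.mem_ker.1 hg) x
  have hfree : ∀ g ∈ A, ∀ u : V, u ≠ 0 → (g : V ≃ₗ[ZMod p] V) u = u → g = 1 := by
    intro g hg u hu hgu
    have h1 := hslf g u
    rw [hgu, hσA g hg] at h1
    have hag : a g = 1 := by
      have hne : e u ≠ 0 := fun h0 => hu (e.injective (h0.trans (map_zero e).symm))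
      have h2 : a g * e u = 1 * e u := by rw [one_mul, ← h1]
      exact mul_right_cancel₀ hne h2
    refine Subtype.ext (LinearEquiv.ext fun w => e.injective ?_)
    rw [hslf, hag, one_mul, hσA g hg]
    rfl
  have hV' : Nat.card V - 1 = p ^ n - 1 := by rw [hV]
  have hAcard : Nat.card A ∣ p ^ n - 1 := hV' ▸ card_dvd_of_free A hfree
  have hAn : A.Normal := ψ.normal_ker
  have hidx : A.index ∣ n := by
    rw [hA, Subgroup.index_ker]
    refine (Subgroup.card_subgroup_dvd_card _).trans ?_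
    have hfr : Module.finrank (ZMod p) F = n := by
      have h := Module.natCard_eq_pow_finrank (K := ZMod p) (V := F)
      rw [hq, Nat.card_zmod] at h
      exact (Nat.pow_right_injective hp.out.two_le h).symm
    rw [IsGalois.card_aut_eq_finrank, hfr]
  set h := Nat.card (MulAction.stabilizer H v) with hh
  have hks := card_classes_le (G := MulAction.stabilizer H v)
  have hcard := card_eq_mul_stabilizer hT hv
  rw [← hh, hV] at hcard
  have hhe : h ≤ A.index := by
    rw [hA, Subgroup.index_ker, hh]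
    refine Nat.card_le_card_of_injective (fun g => ⟨ψ (g : H), (g : H), rfl⟩) fun g g' heq => ?_
    have h1 : ((g : H))⁻¹ * (g' : H) ∈ A := by
      rw [hA, MonoidHom.mem_ker, map_mul, map_inv, inv_mul_eq_one]
      exact congrArg Subtype.val heq
    refine Subtype.ext (inv_mul_eq_one.1 (hfree _ h1 v hv ?_))
    exact ((MulAction.stabilizer H v).mul_mem ((MulAction.stabilizer H v).inv_mem g.2) g'.2 :)
  have hn1 : 1 ≤ p ^ n := Nat.one_le_pow _ _ hp.out.pos
  by_cases htop : A = ⊤
  · have hh1 : h = 1 := by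
      have h1 : A.index = 1 := by rw [htop, Subgroup.index_top]
      have := Nat.card_pos (α := MulAction.stabilizer H v)
      omega
    refine ⟨?_, fun _ => Or.inl ?_⟩
    · have := card_classes_le (G := H)
      rw [hh1, mul_one] at hcard
      rw [hV]
      omega
    · let f : H →* F := MonoidHom.mk' (fun g => Units.mk0 (a g) (ha g)) (fun g g' => Units.ext (by
        show a (g * g') = a g * a g'
        rw [(hmul g g').1, hσA g (htop ▸ Subgroup.mem_top g)])) |> (Units.coeHom F).comp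
      refine isCyclic_of_subgroup_isDomain f fun g g' heq => ?_
      refine Subtype.ext (LinearEquiv.ext fun w => e.injective ?_)
      rw [hslf, hslf, hσA g (htop ▸ Subgroup.mem_top g), hσA g' (htop ▸ Subgroup.mem_top g')]
      exact congrArg (fun b : F => b * e w) heq
  -- the fixed fields
  let K : H → Subfield F := fun g => RingHom.eqLocusField (σ g).toRingHom (RingHom.id F)
  obtain ⟨g₀, hg₀, hmax⟩ : ∃ g₀ ∉ A, ∀ g ∉ A, Nat.card (K g) ≤ Nat.card (K g₀) := by
    obtain ⟨g₁, hg₁⟩ : ∃ g, g ∉ A := by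
      by_contra! hall
      exact htop (top_le_iff.1 fun g _ => hall g)
    obtain ⟨g₀, hg₀, hmax⟩ := Finset.exists_max_image (Finset.univ.filter (· ∉ A))
      (fun g => Nat.card (K g)) ⟨g₁, by simp [hg₁]⟩
    exact ⟨g₀, (Finset.mem_filter.1 hg₀).2, fun g hg => hmax g (by simp [hg])⟩
  have hσne : ∀ g ∉ A, σ g ≠ RingEquiv.refl F := fun g hg h0 => hg (by
    rw [hA, MonoidHom.mem_ker]
    refine AlgEquiv.ext fun x => ?_
    show σ g x = x
    rw [h0]
    rfl)
  obtain ⟨j, hj2, hKj, hj2'⟩ := fixed_field_facts (σ g₀) (hσne g₀ hg₀)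
  set t := Nat.card (K g₀) with ht
  change Nat.card F = t ^ j at hKj
  have htpos : 1 ≤ t := Nat.card_pos
  have ht2 : t * t ≤ p ^ n := by
    rw [← hq, hKj, ← pow_two]
    exact Nat.pow_le_pow_right htpos hj2
  have hout : ∀ g ∉ A, Nat.card (Subgroup.centralizer ({g} : Set H) ⊓ A : Subgroup H) ≤ t - 1 := by
    intro g hg
    haveI := Fintype.ofFinite (K g)
    have h1 : Nat.card {c : K g // c ≠ 0} = Nat.card (K g) - 1 := by
      rw [Nat.card_eq_fintype_card, Nat.card_eq_fintype_card, Fintype.card_subtype_compl,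
        Fintype.card_subtype_eq]
    have hfix : ∀ y : (Subgroup.centralizer ({g} : Set H) ⊓ A : Subgroup H), σ g (a (y : H)) = a (y : H) := by
      rintro ⟨y, hy, hyA⟩
      have h2 := (hmul g y).1
      rw [show g * y = y * g from (Subgroup.mem_centralizer_singleton_iff.1 hy).symm, (hmul y g).1,
        hσA y hyA, mul_comm] at h2
      exact (mul_left_cancel₀ (ha g) h2).symm
    refine le_trans (Nat.card_le_card_of_injective
      (fun y => (⟨⟨a (y : H), hfix y⟩, fun h0 => ha _ (congrArg Subtype.val h0)⟩ : {c : K g // c ≠ 0}))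
      fun y y' heq => ?_) (h1.trans_le (Nat.sub_le_sub_right (hmax g hg) 1))
    have h3 : a (y : H) = a (y' : H) := congrArg (fun c : {c : K g // c ≠ 0} => (c.1 : F)) heq
    refine Subtype.ext (Subtype.ext (LinearEquiv.ext fun w => e.injective ?_))
    rw [hslf, hslf, h3, hσA _ y.2.2, hσA _ y'.2.2]
  have hAle : Nat.card A ≤ p ^ n - 1 :=
    Nat.le_of_dvd (Nat.sub_pos_of_lt (Nat.one_lt_pow (by omega) hp.out.one_lt)) hAcard
  have hAe : A.index ≤ n := Nat.le_of_dvd (by omega) hidx
  have hnc : ∀ x : H, x ∉ Subgroup.center H → Subgroup.centralizer ({x} : Set H) ≠ ⊤ := fun x hx htop' =>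
    hx (Subgroup.mem_center_iff.2 fun g => Subgroup.mem_centralizer_singleton_iff.1
      (htop' ▸ Subgroup.mem_top g))
  have hk2 := classes_le_of_normal A htop (t - 1) 2 (by norm_num) hout fun x _ hx => by
    rw [← (Subgroup.centralizer ({x} : Set H)).index_mul_card]
    exact Nat.mul_le_mul_right _ (Subgroup.one_lt_index_of_ne_top (hnc x hx))
  have hgen : (2 * n - 1) * t < p ^ n →
      Nat.card (ConjClasses H) + Nat.card (ConjClasses (MulAction.stabilizer H v)) < Nat.card V := by
    intro hlt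
    rw [hV]
    obtain ⟨t', htt⟩ : ∃ t', t = t' + 1 := ⟨t - 1, by omega⟩
    rw [htt] at hlt hk2
    obtain ⟨n', rfl⟩ : ∃ n', n = n' + 1 := ⟨n - 1, by omega⟩
    rw [show 2 * (n' + 1) - 1 = 2 * n' + 1 by omega,
      show (2 * n' + 1) * (t' + 1) = 2 * (n' * t') + 2 * n' + t' + 1 by ring] at hlt
    have h1 : (A.index - 1) * (t' + 1 - 1) ≤ n' * t' := Nat.mul_le_mul (by omega) (by omega)
    omega
  have hstrict : (2 * n - 1) * t < p ^ n →
      Nat.card (ConjClasses H) + Nat.card (ConjClasses (MulAction.stabilizer H v)) ≤ Nat.card V ∧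
      (Nat.card (ConjClasses H) + Nat.card (ConjClasses (MulAction.stabilizer H v)) = Nat.card V →
        IsCyclic H ∨ (Nat.card V = 8 ∧ Nat.card H = 21)) :=
    fun hlt => ⟨(hgen hlt).le, fun heq => absurd heq (hgen hlt).ne⟩
  rcases hp.out.eq_two_or_odd' with hp2 | hodd
  swap
  · refine hstrict ?_
    by_contra hge
    push Not at hge
    have h3 : 3 ≤ p := by
      have := hp.out.two_le
      rcases hodd with ⟨k, hk⟩
      omega
    have h4 : p ^ n * p ^ n ≤ (2 * n - 1) ^ 2 * p ^ n :=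
      calc p ^ n * p ^ n ≤ ((2 * n - 1) * t) * ((2 * n - 1) * t) := Nat.mul_le_mul hge hge
        _ = (2 * n - 1) ^ 2 * (t * t) := by ring
        _ ≤ _ := Nat.mul_le_mul_left _ ht2
    have h5 := Nat.le_of_mul_le_mul_right h4 hn1
    have h6 : 3 ^ n ≤ p ^ n := Nat.pow_le_pow_left h3 n
    have h7 := sq_lt_three_pow n hn3
    omega
  subst hp2
  have hHodd : Odd (Nat.card H) := Nat.odd_iff.2 (Nat.two_dvd_ne_zero.1 hcop)
  have hj3 : 3 ≤ j := by
    by_contra hlt
    have hj : j = 2 := by omega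
    have hinv : (ψ g₀) ^ 2 = 1 := by
      refine AlgEquiv.ext fun x => ?_
      rw [pow_two]
      exact hj2' hj x
    apply hg₀
    rw [hA, MonoidHom.mem_ker]
    refine orderOf_eq_one_iff.1 (Nat.eq_one_of_dvd_coprimes ?_ (orderOf_dvd_of_pow_eq_one hinv)
      ((orderOf_map_dvd ψ g₀).trans (orderOf_dvd_natCard g₀)))
    exact Nat.prime_two.coprime_iff_not_dvd.2 hcop
  have ht3 : t ^ 3 ≤ 2 ^ n := by
    rw [← hq, hKj]
    exact Nat.pow_le_pow_right htpos hj3
  by_cases hn5 : 5 ≤ n
  · refine hstrict ?_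
    by_contra hge
    push Not at hge
    have h4 : 2 ^ n * 2 ^ n * 2 ^ n ≤ (2 * n - 1) ^ 3 * 2 ^ n :=
      calc 2 ^ n * 2 ^ n * 2 ^ n ≤ ((2 * n - 1) * t) * ((2 * n - 1) * t) * ((2 * n - 1) * t) :=
            Nat.mul_le_mul (Nat.mul_le_mul hge hge) hge
        _ = (2 * n - 1) ^ 3 * t ^ 3 := by ring
        _ ≤ _ := Nat.mul_le_mul_left _ ht3
    have h5 := Nat.le_of_mul_le_mul_right h4 hn1
    rw [← mul_pow] at h5
    have h7 := cube_lt_four_pow n hn5
    norm_num at h5
    omega
  have heodd : Odd A.index := hHodd.of_dvd_nat A.index_dvd_card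
  have hene : A.index ≠ 1 := fun h1 => htop (Subgroup.index_eq_one.1 h1)
  rcases (show n = 3 ∨ n = 4 by omega) with rfl | rfl
  swap
  · exfalso
    have h4 := Nat.le_of_dvd (by norm_num) hidx
    obtain ⟨k, hk⟩ := heodd
    interval_cases hi : A.index <;> omega
  have he3 : A.index = 3 := by
    rcases (Nat.dvd_prime Nat.prime_three).1 hidx with h1 | h1
    · exact absurd h1 hene
    · exact h1
  have ht_le : t ≤ 2 := by
    by_contra hlt
    push Not at hlt
    have h1 : 3 ^ 3 ≤ t ^ 3 := Nat.pow_le_pow_left hlt 3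
    norm_num at h1 ht3
    omega
  have hk3 := classes_le_of_normal A htop (t - 1) 3 (by norm_num) hout fun x _ hx => by
    rw [← (Subgroup.centralizer ({x} : Set H)).index_mul_card]
    refine Nat.mul_le_mul_right _ ?_
    have h1 := Subgroup.one_lt_index_of_ne_top (hnc x hx)
    obtain ⟨k, hk⟩ := hHodd.of_dvd_nat (Subgroup.centralizer ({x} : Set H)).index_dvd_card
    omega
  rw [he3] at hk3 hhe
  rw [show (2 : ℕ) ^ 3 = 8 from rfl] at hAle hcard hV
  rw [hV]
  refine ⟨by omega, fun heq => Or.inr ⟨rfl, ?_⟩⟩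
  omega

end Cfsg.Agent.Perm.TransCoprime
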