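import Mathlib
import Cfsg.Agent.Lib.Perm.TransCoprime.Plane
import Cfsg.Agent.Lib.Perm.TransCoprime.Semilinear
import Cfsg.Agent.Lib.Perm.TransCoprime.EightyOne

/-!
# The class number of a coprime transitive linear group and its point stabilizer
-/

set_option autoImplicit false
set_option linter.style.haveILetI false
set_option linter.unusedSectionVars false

namespace Cfsg.Agent.Perm.TransCoprime

open TransLinear (Trans)
open NearField (finite_H)

/-- isomorphic groups have equally many classes -/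
theorem card_classes_congr {G K : Type*} [Group G] [Group K] (e : G ≃* K) :
    Nat.card (ConjClasses G) = Nat.card (ConjClasses K) :=
  Nat.card_congr
    { toFun := ConjClasses.map e.toMonoidHom
      invFun := ConjClasses.map e.symm.toMonoidHom
      left_inv := fun c => Quotient.inductionOn c fun a => congrArg ConjClasses.mk (e.symm_apply_apply a)
      right_inv := fun c => Quotient.inductionOn c fun a => congrArg ConjClasses.mk (e.apply_symm_apply a) }

variable {p : ℕ} [hp : Fact p.Prime] {V : Type*} [AddCommGroup V] [Module (ZMod p) V] [Finite V]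
variable {H : Subgroup (V ≃ₗ[ZMod p] V)}

theorem bound_classes [Nontrivial V] (hcop : ¬ p ∣ Nat.card H) (hT : Trans H) {v : V} (hv : v ≠ 0) :
    Nat.card (ConjClasses H) + Nat.card (ConjClasses (MulAction.stabilizer H v)) ≤ Nat.card V ∧
      (Nat.card (ConjClasses H) + Nat.card (ConjClasses (MulAction.stabilizer H v)) = Nat.card V →
        IsCyclic H ∨ (Nat.card V = 8 ∧ Nat.card H = 21) ∨ (Nat.card V = 9 ∧ Nat.card H = 16)) := by
  classical
  haveI := finite_H (H := H)
  rcases Nat.lt_or_ge (Module.finrank (ZMod p) V) 3 with hlt | hge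
  · rcases (show Module.finrank (ZMod p) V = 1 ∨ Module.finrank (ZMod p) V = 2 by
      have := Module.finrank_pos (R := ZMod p) (M := V); omega) with h1 | h2
    · obtain ⟨ha, hb⟩ := bound_line (H := H) h1 hv
      exact ⟨ha, fun _ => Or.inl hb⟩
    · obtain ⟨ha, hb⟩ := bound_plane hcop h2 hT hv
      exact ⟨ha, fun e => (hb e).imp id Or.inr⟩
  have hsolv := solvable_of_trans hcop rfl hge hT
  have hsl : ∀ (_ : ∃ (F : Type) (_ : Field F) (_ : Fintype F) (e : V ≃+ F),
      ∀ h : H, ∃ (a : F) (σ : F ≃+* F), ∀ w : V, e ((h : V ≃ₗ[ZMod p] V) w) = a * σ (e w)),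
      Nat.card (ConjClasses H) + Nat.card (ConjClasses (MulAction.stabilizer H v)) ≤ Nat.card V ∧
      (Nat.card (ConjClasses H) + Nat.card (ConjClasses (MulAction.stabilizer H v)) = Nat.card V →
        IsCyclic H ∨ (Nat.card V = 8 ∧ Nat.card H = 21) ∨ (Nat.card V = 9 ∧ Nat.card H = 16)) := by
    intro h
    obtain ⟨ha, hb⟩ := bound_semilinear hcop rfl hge hT h hv
    exact ⟨ha, fun e => (hb e).imp id Or.inl⟩
  rcases TransLinear.semilinear_or_small hT hsolv with h | hsmall
  · exact hsl h
  obtain ⟨hp3, hn4⟩ : p = 3 ∧ Module.finrank (ZMod p) V = 4 := by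
    rw [Module.natCard_eq_pow_finrank (K := ZMod p) (V := V), Nat.card_zmod] at hsmall
    generalize Module.finrank (ZMod p) V = n at *
    have h1 : p ^ 3 ≤ p ^ n := Nat.pow_le_pow_right hp.out.pos hge
    have hsq : ∀ a : ℕ, a.Prime → ∀ b, p ^ n = a ^ b → p = a ∧ n = b := fun a ha b e => by
      have hd : p ∣ a ^ b := e ▸ dvd_pow_self p (by omega)
      obtain rfl := (Nat.prime_dvd_prime_iff_eq hp.out ha).1 (hp.out.dvd_of_dvd_pow hd)
      exact ⟨rfl, Nat.pow_right_injective hp.out.two_le e⟩
    simp only [Set.mem_insert_iff, Set.mem_singleton_iff] at hsmall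
    rcases hsmall with h | h | h | h | h | h
    · have := hsq 3 (by norm_num) 2 (by simpa using h); omega
    · have := hsq 5 (by norm_num) 2 (by simpa using h); omega
    · have := hsq 7 (by norm_num) 2 (by simpa using h); omega
    · have := hsq 11 (by norm_num) 2 (by simpa using h); omega
    · have := hsq 23 (by norm_num) 2 (by simpa using h); omega
    · exact hsq 3 (by norm_num) 4 (by simpa using h)
  rcases bound_eightyOne hp3 hn4 hcop hT hsolv with h | h
  · exact hsl h
  · exact ⟨(h v hv).le, fun e => absurd e (h v hv).ne⟩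

/-- a coprime group of additive automorphisms transitive on the nonzero vectors -/
theorem bound_of_hom {G : Type*} [Group G] [Nontrivial V] (φ : G →* V ≃ₗ[ZMod p] V)
    (hφ : Function.Injective φ) (hcop : ¬ p ∣ Nat.card G)
    (htr : ∀ a b : V, a ≠ 0 → b ≠ 0 → ∃ g, φ g a = b)
    {v : V} (hv : v ≠ 0) (S : Subgroup G) (hS : ∀ g, g ∈ S ↔ φ g v = v) :
    Nat.card (ConjClasses G) + Nat.card (ConjClasses S) ≤ Nat.card V ∧
      (Nat.card (ConjClasses G) + Nat.card (ConjClasses S) = Nat.card V →
        IsCyclic G ∨ (Nat.card V = 8 ∧ Nat.card G = 21) ∨ (Nat.card V = 9 ∧ Nat.card G = 16)) := by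
  let eG : G ≃* φ.range := MonoidHom.ofInjective hφ
  have hT : Trans φ.range := fun a b ha hb =>
    let ⟨g, hg⟩ := htr a b ha hb
    ⟨eG g, hg⟩
  obtain ⟨h1, h2⟩ := bound_classes (by rwa [← Nat.card_congr eG.toEquiv]) hT hv
  have he : Nat.card (ConjClasses S) = Nat.card (ConjClasses (MulAction.stabilizer φ.range v)) := by
    let f : S →* MulAction.stabilizer φ.range v :=
      (eG.toMonoidHom.comp S.subtype).codRestrict _ fun g => (hS g).1 g.2
    refine card_classes_congr (MulEquiv.ofBijective f ⟨fun a b e => ?_, ?_⟩)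
    · exact S.subtype_injective (eG.injective (congrArg Subtype.val e))
    · rintro ⟨h, hh⟩
      obtain ⟨g, rfl⟩ := eG.surjective h
      exact ⟨⟨g, (hS g).2 hh⟩, rfl⟩
  rw [he, card_classes_congr eG, Nat.card_congr eG.toEquiv]
  exact ⟨h1, fun e => (h2 e).imp_left fun h => eG.isCyclic.2 h⟩

/-- the same, the scalars being forgotten -/
theorem bound_of_addHom {W G : Type*} [AddCommGroup W] [Finite W] [Nontrivial W] [Group G] {q : ℕ}
    [Fact q.Prime] (hexp : ∀ x : W, q • x = 0) (φ : G → W ≃+ W)
    (hmul : ∀ a b x, φ (a * b) x = φ a (φ b x)) (hφ : Function.Injective φ)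
    (hcop : ¬ q ∣ Nat.card G) (htr : ∀ a b : W, a ≠ 0 → b ≠ 0 → ∃ g, φ g a = b)
    {v : W} (hv : v ≠ 0) (S : Subgroup G) (hS : ∀ g, g ∈ S ↔ φ g v = v) :
    Nat.card (ConjClasses G) + Nat.card (ConjClasses S) ≤ Nat.card W ∧
      (Nat.card (ConjClasses G) + Nat.card (ConjClasses S) = Nat.card W →
        IsCyclic G ∨ (Nat.card W = 8 ∧ Nat.card G = 21) ∨ (Nat.card W = 9 ∧ Nat.card G = 16)) := by
  haveI M : Module (ZMod q) W := AddCommGroup.zmodModule hexp
  let L : G → W ≃ₗ[ZMod q] W := fun g => (φ g).toLinearEquiv fun c x => ZMod.map_smul (φ g) c x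
  let ψ : G →* (W ≃ₗ[ZMod q] W) :=
    MonoidHom.mk' L fun a b => LinearEquiv.ext fun x => (hmul a b x).trans (LinearEquiv.mul_apply (L a) (L b) x).symm
  exact bound_of_hom (p := q) ψ (fun g g' e => hφ (AddEquiv.ext fun x => LinearEquiv.congr_fun e x))
    hcop htr hv S hS

/-- a coprime group of automorphisms transitive on the nonidentity elements of an elementary abelian group -/
theorem bound_of_action {A G : Type*} [CommGroup A] [Finite A] [Group G] {q : ℕ} [Fact q.Prime]
    (hexp : ∀ a : A, a ^ q = 1) (φ : G →* MulAut A) (hφ : Function.Injective φ)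
    (hcop : ¬ q ∣ Nat.card G) (htr : ∀ a b : A, a ≠ 1 → b ≠ 1 → ∃ g, φ g a = b)
    (a₀ : A) (ha₀ : a₀ ≠ 1) (S : Subgroup G) (hS : ∀ g, g ∈ S ↔ φ g a₀ = a₀) :
    Nat.card (ConjClasses G) + Nat.card (ConjClasses S) ≤ Nat.card A ∧
      (Nat.card (ConjClasses G) + Nat.card (ConjClasses S) = Nat.card A →
        IsCyclic G ∨ (Nat.card A = 8 ∧ Nat.card G = 21) ∨ (Nat.card A = 9 ∧ Nat.card G = 16)) := by
  have hw : Additive.ofMul a₀ ≠ (0 : Additive A) := fun e => ha₀ (congrArg Additive.toMul e)
  haveI : Nontrivial (Additive A) := ⟨⟨_, _, hw⟩⟩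
  have hA : Nat.card (Additive A) = Nat.card A := Nat.card_congr Additive.toMul
  rw [← hA]
  refine bound_of_addHom (W := Additive A) (q := q) (fun x => congrArg Additive.ofMul (hexp (Additive.toMul x)))
    (fun g => MulEquiv.toAdditive (φ g))
    (fun a b x => congrArg Additive.ofMul (DFunLike.congr_fun (map_mul φ a b) (Additive.toMul x)))
    (fun g g' e => hφ (MulEquiv.ext fun a =>
      congrArg Additive.toMul (DFunLike.congr_fun e (Additive.ofMul a))))
    hcop (fun a b ha hb => ?_) hw S
    fun g => (hS g).trans ⟨fun e => congrArg Additive.ofMul e, fun e => congrArg Additive.toMul e⟩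
  obtain ⟨g, hg⟩ := htr (Additive.toMul a) (Additive.toMul b)
    (fun e => ha (Additive.toMul.injective e)) (fun e => hb (Additive.toMul.injective e))
  exact ⟨g, Additive.toMul.injective hg⟩

end Cfsg.Agent.Perm.TransCoprime
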